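import Groth.Agent.H23Un.Branch

/-!
# The monomial basis of the curve algebra
-/

set_option autoImplicit false
universe u

open W4c5m1nsnscurves MvPolynomial

namespace Groth.Agent.H23Un

variable {R : Type u} [CommRing R] {m : ℕ} {v : UGen m → R}

abbrev Idx (m : ℕ) : Type := Option (ℕ ⊕ (CVar m × ℕ))

variable (v) in
/-- The class of a variable. -/
noncomputable def pr (y : CVar m) : CurveAlg R m v := Ideal.Quotient.mk _ (X y)

variable (v) in
noncomputable def wv (g : UGen m) : CurveAlg R m v := algebraMap R _ (v g)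

theorem cmon_none : cmon R m v none = 1 := rfl

theorem cmon_inl (k : ℕ) : cmon R m v (some (.inl k)) = pr v .x2 ^ (k + 1) * pr v .x3 := by
  simp [cmon, pr]

theorem cmon_inr (y : CVar m) (k : ℕ) : cmon R m v (some (.inr (y, k))) = pr v y ^ (k + 1) := by
  simp [cmon, pr]

theorem mk_C (r : R) : Ideal.Quotient.mk (Ideal.span (CRel R m v)) (C r) = algebraMap R _ r := rfl

theorem pr_r1 (i : Fin m) : R1 (wv v) (pr v) i := by
  have h : X (R := R) CVar.x2 * X (CVar.xi i) -
      (X .x2 * X .x3 + C (v (.ci i)) * X (.xi i) + C (v (.cbi i)) * X .x2 - C (v .c)) ∈ CRel R m v :=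
    Or.inl (Or.inl ⟨i, rfl⟩)
  have := Ideal.Quotient.eq_zero_iff_mem.2 (Ideal.subset_span h)
  simp only [map_add, map_mul, map_sub, mk_C] at this
  simp only [R1, pr, wv]
  linear_combination this

theorem pr_r2 (i : Fin m) : R2 (wv v) (pr v) i := by
  have h : X (R := R) CVar.x3 * X (CVar.xi i) -
      (X .x2 * X .x3 + C (v .a + v (.ci i) + v (.cbi i)) * (X (.xi i) - C (v (.cbi i))) +
        C (v .cb) - C (v .c)) ∈ CRel R m v := Or.inl (Or.inr ⟨i, rfl⟩)
  have := Ideal.Quotient.eq_zero_iff_mem.2 (Ideal.subset_span h)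
  simp only [map_add, map_mul, map_sub, mk_C] at this
  simp only [R2, A, pr, wv]
  linear_combination this

theorem pr_rr (i j : Fin m) (hij : i ≠ j) : RR (wv v) (pr v) i j hij := by
  have h : X (R := R) (CVar.xi i) * X (CVar.xi j) -
      (X .x2 * X .x3 + C (v (.cij i j hij)) * X (.xi j) +
        C (v (.cij j i hij.symm)) * X (.xi i) - C (v .c)) ∈ CRel R m v := Or.inr ⟨⟨(i, j), hij⟩, rfl⟩
  have := Ideal.Quotient.eq_zero_iff_mem.2 (Ideal.subset_span h)
  simp only [map_add, map_mul, map_sub, mk_C] at this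
  simp only [RR, pr, wv]
  linear_combination this

theorem pr_cub (i : Fin m) : Cub (wv v) (pr v) (dd (wv v) i) := by
  have h1 := pr_r1 (v := v) i
  have h2 := pr_r2 (v := v) i
  simp only [R1] at h1
  simp only [R2, A] at h2
  simp only [Cub, dd, A]
  linear_combination (pr v .x2 - wv v (.ci i)) * h2 -
    (pr v .x3 - (wv v .a + wv v (.ci i) + wv v (.cbi i))) * h1

section Span

local notation "S" => Submodule.span R (Set.range (cmon R m v))

theorem wv_mul {M : Submodule R (CurveAlg R m v)} {z : CurveAlg R m v} (hz : z ∈ M) (g : UGen m) :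
    wv v g * z ∈ M := by
  rw [wv, ← Algebra.smul_def]
  exact M.smul_mem _ hz

/-- The part of the family not involving the variables `xᵢ`. -/
inductive InB : Idx m → Prop
  | one : InB none
  | inl (k : ℕ) : InB (some (.inl k))
  | x2 (k : ℕ) : InB (some (.inr (.x2, k)))
  | x3 (k : ℕ) : InB (some (.inr (.x3, k)))

variable (v) in
noncomputable def W (k : ℕ) : Submodule R (CurveAlg R m v) :=
  Submodule.span R (cmon R m v '' {b | InB b ∧ ∀ j, b = some (.inr (.x3, j)) → j < k})

variable (v) in
noncomputable def B : Submodule R (CurveAlg R m v) := Submodule.span R (cmon R m v '' {b | InB b})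

theorem W_mono {k l : ℕ} (h : k ≤ l) : W v k ≤ W v l :=
  Submodule.span_mono (Set.image_mono fun _ hb => ⟨hb.1, fun j hj => (hb.2 j hj).trans_le h⟩)

theorem W_le_B (k : ℕ) : W v k ≤ B v := Submodule.span_mono (Set.image_mono fun _ hb => hb.1)

theorem B_le : B v ≤ S := Submodule.span_mono (Set.image_subset_range _ _)

theorem x2pow_mem_W (j k : ℕ) : pr v .x2 ^ j ∈ W v k := by
  cases j with
  | zero => rw [pow_zero]; exact Submodule.subset_span ⟨none, ⟨.one, by simp⟩, rfl⟩
  | succ j => exact Submodule.subset_span ⟨_, ⟨InB.x2 j, by simp⟩, cmon_inr _ _⟩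

theorem x2pow_x3_mem_W (j k : ℕ) : pr v .x2 ^ (j + 1) * pr v .x3 ∈ W v k :=
  Submodule.subset_span ⟨_, ⟨InB.inl j, by simp⟩, cmon_inl _⟩

theorem x3pow_mem_W {j k : ℕ} (h : j ≤ k) : pr v .x3 ^ j ∈ W v k := by
  cases j with
  | zero => exact (pow_zero (pr v .x2)).trans (pow_zero (pr v .x3)).symm ▸ x2pow_mem_W 0 k
  | succ j =>
    refine Submodule.subset_span ⟨_, ⟨InB.x3 j, ?_⟩, cmon_inr _ _⟩
    intro i hi
    obtain rfl : j = i := by simpa using hi
    omega

theorem x2_mul_x3pow (i₀ : Fin m) (k : ℕ) : pr v .x2 * pr v .x3 ^ k ∈ W v k := by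
  induction k using Nat.strong_induction_on with
  | _ k ih =>
    rcases k with - | - | k
    · simpa using x2pow_mem_W (v := v) 1 0
    · simpa using x2pow_x3_mem_W (v := v) 0 1
    · have hK : _ = _ := pr_cub (v := v) i₀
      have he : pr v .x2 * pr v .x3 ^ (k + 2) = pr v .x2 * (pr v .x2 * pr v .x3 ^ (k + 1)) +
          wv v .a * (pr v .x2 * pr v .x3 ^ (k + 1)) + wv v .cb * (pr v .x2 * pr v .x3 ^ k) -
          wv v .c * (pr v .x2 * pr v .x3 ^ k) + wv v .c * pr v .x3 ^ (k + 1) +
          dd (wv v) i₀ * pr v .x3 ^ k := by linear_combination pr v .x3 ^ k * hK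
      have hk : k < k + 2 := by omega
      have hk1 : k + 1 < k + 2 := by omega
      rw [he]
      have hd : dd (wv v) i₀ = algebraMap R _ (dd v i₀) := by
        simp only [dd, A, wv, map_add, map_sub, map_mul, map_neg]
      refine add_mem (add_mem (sub_mem (add_mem (add_mem ?_ ?_) ?_) ?_) ?_) ?_
      · have : ∀ z ∈ W v (k + 1), pr v .x2 * z ∈ W v (k + 2) := by
          intro z hz
          induction hz using Submodule.span_induction with
          | mem z hz =>
            obtain ⟨b, ⟨hb, hbk⟩, rfl⟩ := hz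
            cases hb with
            | one => rw [cmon_none, mul_one]; simpa using x2pow_mem_W (v := v) 1 (k + 2)
            | inl j => rw [cmon_inl, ← mul_assoc, ← pow_succ']; exact x2pow_x3_mem_W _ _
            | x2 j => rw [cmon_inr, ← pow_succ']; exact x2pow_mem_W _ _
            | x3 j =>
              rw [cmon_inr]
              have hj := hbk j rfl
              exact W_mono (by omega) (ih (j + 1) (by omega))
          | zero => simp
          | add x y _ _ hx hy => rw [mul_add]; exact add_mem hx hy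
          | smul a x _ hx => rw [mul_smul_comm]; exact Submodule.smul_mem _ _ hx
        exact this _ (ih _ hk1)
      · exact wv_mul (W_mono (by omega) (ih _ hk1)) _
      · exact wv_mul (W_mono (by omega) (ih _ hk)) _
      · exact wv_mul (W_mono (by omega) (ih _ hk)) _
      · exact wv_mul (x3pow_mem_W (by omega)) _
      · rw [hd, ← Algebra.smul_def]
        exact Submodule.smul_mem _ _ (x3pow_mem_W (by omega))

theorem x2pow_x3sq (i₀ : Fin m) (k : ℕ) : pr v .x2 ^ (k + 1) * pr v .x3 ^ 2 ∈ B v := by
  have hK : _ = _ := pr_cub (v := v) i₀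
  have hd : dd (wv v) i₀ = algebraMap R _ (dd v i₀) := by
    simp only [dd, A, wv, map_add, map_sub, map_mul, map_neg]
  have he : pr v .x2 ^ (k + 1) * pr v .x3 ^ 2 = pr v .x2 ^ (k + 1 + 1) * pr v .x3 +
      wv v .a * (pr v .x2 ^ (k + 1) * pr v .x3) + wv v .cb * pr v .x2 ^ (k + 1) - wv v .c * pr v .x2 ^ (k + 1) +
      wv v .c * (pr v .x2 ^ k * pr v .x3) + dd (wv v) i₀ * pr v .x2 ^ k := by
    linear_combination pr v .x2 ^ k * hK
  rw [he]
  refine add_mem (add_mem (sub_mem (add_mem (add_mem ?_ ?_) ?_) ?_) ?_) ?_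
  · exact W_le_B 0 (x2pow_x3_mem_W _ 0)
  · exact wv_mul (W_le_B 0 (x2pow_x3_mem_W _ 0)) _
  · exact wv_mul (W_le_B 0 (x2pow_mem_W _ 0)) _
  · exact wv_mul (W_le_B 0 (x2pow_mem_W _ 0)) _
  · refine wv_mul ?_ _
    cases k with
    | zero => simpa using W_le_B 1 (x3pow_mem_W (v := v) (le_refl 1))
    | succ k => exact W_le_B 0 (x2pow_x3_mem_W _ 0)
  · rw [hd, ← Algebra.smul_def]
    exact Submodule.smul_mem _ _ (W_le_B 0 (x2pow_mem_W _ 0))

theorem B_mul_x2 (i₀ : Fin m) {z : CurveAlg R m v} (hz : z ∈ B v) : pr v .x2 * z ∈ B v := by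
  induction hz using Submodule.span_induction with
  | mem z hz =>
    obtain ⟨b, hb, rfl⟩ := hz
    cases hb with
    | one => rw [cmon_none, mul_one]; simpa using W_le_B 0 (x2pow_mem_W (v := v) 1 0)
    | inl j => rw [cmon_inl, ← mul_assoc, ← pow_succ']; exact W_le_B 0 (x2pow_x3_mem_W _ _)
    | x2 j => rw [cmon_inr, ← pow_succ']; exact W_le_B 0 (x2pow_mem_W _ _)
    | x3 j => rw [cmon_inr]; exact W_le_B _ (x2_mul_x3pow i₀ (j + 1))
  | zero => simp
  | add x y _ _ hx hy => rw [mul_add]; exact add_mem hx hy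
  | smul a x _ hx => rw [mul_smul_comm]; exact Submodule.smul_mem _ _ hx

theorem B_mul_x3 (i₀ : Fin m) {z : CurveAlg R m v} (hz : z ∈ B v) : pr v .x3 * z ∈ B v := by
  induction hz using Submodule.span_induction with
  | mem z hz =>
    obtain ⟨b, hb, rfl⟩ := hz
    cases hb with
    | one => rw [cmon_none, mul_one]; simpa using W_le_B 1 (x3pow_mem_W (v := v) (le_refl 1))
    | inl j => rw [cmon_inl, mul_comm, mul_assoc, ← pow_two]; exact x2pow_x3sq i₀ j
    | x2 j => rw [cmon_inr, mul_comm]; exact W_le_B 0 (x2pow_x3_mem_W _ _)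
    | x3 j => rw [cmon_inr, ← pow_succ']; exact W_le_B _ (x3pow_mem_W le_rfl)
  | zero => simp
  | add x y _ _ hx hy => rw [mul_add]; exact add_mem hx hy
  | smul a x _ hx => rw [mul_smul_comm]; exact Submodule.smul_mem _ _ hx

variable (v) in
noncomputable def Si (i : Fin m) (k : ℕ) : Submodule R (CurveAlg R m v) :=
  B v ⊔ Submodule.span R ((fun j => pr v (.xi i) ^ j) '' {j | j ≤ k})

theorem Si_mono (i : Fin m) {k l : ℕ} (h : k ≤ l) : Si v i k ≤ Si v i l :=
  sup_le_sup le_rfl (Submodule.span_mono (Set.image_mono fun _ hj => le_trans hj h))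

theorem pow_mem_Si (i : Fin m) {j k : ℕ} (h : j ≤ k) : pr v (.xi i) ^ j ∈ Si v i k :=
  Submodule.mem_sup_right (Submodule.subset_span ⟨j, h, rfl⟩)

theorem xipow_mem (i : Fin m) (k : ℕ) : pr v (.xi i) ^ k ∈ S := by
  cases k with
  | zero => exact Submodule.subset_span ⟨none, (pow_zero _).symm⟩
  | succ k => exact Submodule.subset_span ⟨_, cmon_inr _ _⟩

theorem Si_le (i : Fin m) (k : ℕ) : Si v i k ≤ S := by
  refine sup_le B_le (Submodule.span_le.2 ?_)
  rintro _ ⟨j, -, rfl⟩
  exact xipow_mem i j

theorem mul_xipow (i : Fin m) (k : ℕ) :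
    pr v .x2 * pr v (.xi i) ^ k ∈ Si v i k ∧ pr v .x3 * pr v (.xi i) ^ k ∈ Si v i k := by
  induction k using Nat.strong_induction_on with
  | _ k ih =>
    rcases k with - | k
    · constructor
      · rw [pow_zero, mul_one]
        exact Submodule.mem_sup_left (W_le_B 0 (by simpa using x2pow_mem_W (v := v) 1 0))
      · rw [pow_zero, mul_one]
        exact Submodule.mem_sup_left (W_le_B 1 (by simpa using x3pow_mem_W (v := v) (le_refl 1)))
    have hx3 : ∀ z ∈ Si v i k, pr v .x3 * z ∈ Si v i k := by
      intro z hz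
      obtain ⟨b, hb, c, hc, rfl⟩ := Submodule.mem_sup.1 hz
      rw [mul_add]
      refine add_mem (Submodule.mem_sup_left (B_mul_x3 i hb)) ?_
      clear hz hb
      induction hc using Submodule.span_induction with
      | mem z hz =>
        obtain ⟨j, hj, rfl⟩ := hz
        exact Si_mono i hj (ih j (Nat.lt_succ_of_le hj)).2
      | zero => simp
      | add x y _ _ hx hy => rw [mul_add]; exact add_mem hx hy
      | smul a x _ hx => rw [mul_smul_comm]; exact Submodule.smul_mem _ _ hx
    have h23 : pr v .x3 * (pr v .x2 * pr v (.xi i) ^ k) ∈ Si v i (k + 1) :=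
      Si_mono i (Nat.le_succ k) (hx3 _ (ih k (Nat.lt_succ_self k)).1)
    constructor
    · have hr : _ = _ := pr_r1 (v := v) i
      rw [show pr v .x2 * pr v (.xi i) ^ (k + 1) = pr v .x3 * (pr v .x2 * pr v (.xi i) ^ k) +
        wv v (.ci i) * pr v (.xi i) ^ (k + 1) + wv v (.cbi i) * (pr v .x2 * pr v (.xi i) ^ k) -
        wv v .c * pr v (.xi i) ^ k by linear_combination pr v (.xi i) ^ k * hr]
      exact sub_mem (add_mem (add_mem h23 (wv_mul (pow_mem_Si i le_rfl) _))
        (wv_mul (Si_mono i (Nat.le_succ k) (ih k (Nat.lt_succ_self k)).1) _))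
        (wv_mul (pow_mem_Si i (Nat.le_succ k)) _)
    · have hr : _ = _ := pr_r2 (v := v) i
      rw [show pr v .x3 * pr v (.xi i) ^ (k + 1) = pr v .x3 * (pr v .x2 * pr v (.xi i) ^ k) +
        A (wv v) i * (pr v (.xi i) ^ (k + 1) - wv v (.cbi i) * pr v (.xi i) ^ k) +
        wv v .cb * pr v (.xi i) ^ k - wv v .c * pr v (.xi i) ^ k by linear_combination pr v (.xi i) ^ k * hr]
      refine sub_mem (add_mem (add_mem h23 ?_) (wv_mul (pow_mem_Si i (Nat.le_succ k)) _))
        (wv_mul (pow_mem_Si i (Nat.le_succ k)) _)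
      have hd : pr v (.xi i) ^ (k + 1) - wv v (.cbi i) * pr v (.xi i) ^ k ∈ Si v i (k + 1) :=
        sub_mem (pow_mem_Si i le_rfl) (wv_mul (pow_mem_Si i (Nat.le_succ k)) _)
      simp only [A, add_mul]
      exact add_mem (add_mem (wv_mul hd _) (wv_mul hd _)) (wv_mul hd _)

theorem x2pow_mul_xi (i : Fin m) (k : ℕ) : pr v .x2 ^ k * pr v (.xi i) ∈ S := by
  induction k with
  | zero => simpa using xipow_mem (v := v) i 1
  | succ k ih =>
    have hr : _ = _ := pr_r1 (v := v) i
    rw [show pr v .x2 ^ (k + 1) * pr v (.xi i) = pr v .x2 ^ (k + 1) * pr v .x3 +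
      wv v (.ci i) * (pr v .x2 ^ k * pr v (.xi i)) + wv v (.cbi i) * pr v .x2 ^ (k + 1) -
      wv v .c * pr v .x2 ^ k by linear_combination pr v .x2 ^ k * hr]
    exact sub_mem (add_mem (add_mem (B_le (W_le_B 0 (x2pow_x3_mem_W _ _))) (wv_mul ih _))
      (wv_mul (B_le (W_le_B 0 (x2pow_mem_W _ _))) _)) (wv_mul (B_le (W_le_B 0 (x2pow_mem_W _ _))) _)

theorem x3pow_mul_xi (i : Fin m) (k : ℕ) : pr v .x3 ^ k * pr v (.xi i) ∈ S := by
  induction k with
  | zero => simpa using xipow_mem (v := v) i 1
  | succ k ih =>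
    have hr : _ = _ := pr_r2 (v := v) i
    have h3 : pr v .x3 ^ k ∈ S := B_le (W_le_B k (x3pow_mem_W le_rfl))
    rw [show pr v .x3 ^ (k + 1) * pr v (.xi i) = pr v .x2 * pr v .x3 ^ (k + 1) +
      A (wv v) i * (pr v .x3 ^ k * pr v (.xi i) - wv v (.cbi i) * pr v .x3 ^ k) +
      wv v .cb * pr v .x3 ^ k - wv v .c * pr v .x3 ^ k by linear_combination pr v .x3 ^ k * hr]
    refine sub_mem (add_mem (add_mem (B_le (W_le_B _ (x2_mul_x3pow i _))) ?_) (wv_mul h3 _)) (wv_mul h3 _)
    have hd := sub_mem ih (wv_mul h3 (.cbi i))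
    simp only [A, add_mul]
    exact add_mem (add_mem (wv_mul hd _) (wv_mul hd _)) (wv_mul hd _)

theorem x2pow_x3_mul_xi (i : Fin m) (k : ℕ) : pr v .x2 ^ k * pr v .x3 * pr v (.xi i) ∈ S := by
  induction k with
  | zero => simpa using x3pow_mul_xi (v := v) i 1
  | succ k ih =>
    have hr : _ = _ := pr_r1 (v := v) i
    rw [show pr v .x2 ^ (k + 1) * pr v .x3 * pr v (.xi i) = pr v .x2 ^ (k + 1) * pr v .x3 ^ 2 +
      wv v (.ci i) * (pr v .x2 ^ k * pr v .x3 * pr v (.xi i)) +
      wv v (.cbi i) * (pr v .x2 ^ (k + 1) * pr v .x3) - wv v .c * (pr v .x2 ^ k * pr v .x3) by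
        linear_combination pr v .x2 ^ k * pr v .x3 * hr]
    refine sub_mem (add_mem (add_mem (B_le (x2pow_x3sq i k)) (wv_mul ih _))
      (wv_mul (B_le (W_le_B 0 (x2pow_x3_mem_W _ _))) _)) (wv_mul ?_ _)
    cases k with
    | zero => simpa using B_le (W_le_B 1 (x3pow_mem_W (v := v) (le_refl 1)))
    | succ k => exact B_le (W_le_B 0 (x2pow_x3_mem_W _ 0))

theorem xipow_mul_xi {i j : Fin m} (h : i ≠ j) (k : ℕ) : pr v (.xi i) ^ k * pr v (.xi j) ∈ S := by
  induction k with
  | zero => simpa using xipow_mem (v := v) j 1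
  | succ k ih =>
    have hr : _ = _ := pr_rr (v := v) i j h
    rw [show pr v (.xi i) ^ (k + 1) * pr v (.xi j) = pr v .x3 * (pr v .x2 * pr v (.xi i) ^ k) +
      wv v (.cij i j h) * (pr v (.xi i) ^ k * pr v (.xi j)) +
      wv v (.cij j i h.symm) * pr v (.xi i) ^ (k + 1) - wv v .c * pr v (.xi i) ^ k by
        linear_combination pr v (.xi i) ^ k * hr]
    refine sub_mem (add_mem (add_mem ?_ (wv_mul ih _)) (wv_mul (xipow_mem i _) _)) (wv_mul (xipow_mem i _) _)
    have hz := (mul_xipow (v := v) i k).1
    obtain ⟨b, hb, c, hc, hbc⟩ := Submodule.mem_sup.1 hz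
    rw [← hbc, mul_add]
    refine add_mem (B_le (B_mul_x3 i hb)) ?_
    clear hz hbc
    induction hc using Submodule.span_induction with
    | mem z hz =>
      obtain ⟨l, -, rfl⟩ := hz
      exact Si_le i l (mul_xipow i l).2
    | zero => simp
    | add x y _ _ hx hy => rw [mul_add]; exact add_mem hx hy
    | smul a x _ hx => rw [mul_smul_comm]; exact Submodule.smul_mem _ _ hx

theorem span_eq_top (i₀ : Fin m) : S = ⊤ := by
  have hmul : ∀ (y : CVar m) (z), z ∈ S → pr v y * z ∈ S := by
    intro y z hz
    induction hz using Submodule.span_induction with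
    | mem z hz =>
      obtain ⟨b, rfl⟩ := hz
      rcases b with - | k | ⟨z, k⟩
      · rw [cmon_none, mul_one]
        exact Submodule.subset_span ⟨_, (cmon_inr y 0).trans (pow_one _)⟩
      · have hb : cmon R m v (some (.inl k)) ∈ B v := Submodule.subset_span ⟨_, InB.inl k, rfl⟩
        cases y with
        | x2 => exact B_le (B_mul_x2 i₀ hb)
        | x3 => exact B_le (B_mul_x3 i₀ hb)
        | xi i => rw [cmon_inl, mul_comm]; exact x2pow_x3_mul_xi i _
      · cases z with
        | x2 =>
          have hb : cmon R m v (some (.inr (.x2, k))) ∈ B v := Submodule.subset_span ⟨_, InB.x2 k, rfl⟩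
          cases y with
          | x2 => exact B_le (B_mul_x2 i₀ hb)
          | x3 => exact B_le (B_mul_x3 i₀ hb)
          | xi i => rw [cmon_inr, mul_comm]; exact x2pow_mul_xi i _
        | x3 =>
          have hb : cmon R m v (some (.inr (.x3, k))) ∈ B v := Submodule.subset_span ⟨_, InB.x3 k, rfl⟩
          cases y with
          | x2 => exact B_le (B_mul_x2 i₀ hb)
          | x3 => exact B_le (B_mul_x3 i₀ hb)
          | xi i => rw [cmon_inr, mul_comm]; exact x3pow_mul_xi i _
        | xi j =>
          rw [cmon_inr]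
          cases y with
          | x2 => exact Si_le j _ (mul_xipow j _).1
          | x3 => exact Si_le j _ (mul_xipow j _).2
          | xi i =>
            rcases eq_or_ne j i with rfl | h
            · rw [← pow_succ']; exact xipow_mem j _
            · rw [mul_comm]; exact xipow_mul_xi h _
    | zero => simp
    | add x y _ _ hx hy => rw [mul_add]; exact add_mem hx hy
    | smul a x _ hx => rw [mul_smul_comm]; exact Submodule.smul_mem _ _ hx
  rw [eq_top_iff]
  rintro z -
  obtain ⟨p, rfl⟩ := Ideal.Quotient.mk_surjective z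
  induction p using MvPolynomial.induction_on with
  | C r =>
    rw [mk_C, Algebra.algebraMap_eq_smul_one]
    exact Submodule.smul_mem _ _ (Submodule.subset_span ⟨none, rfl⟩)
  | add p q hp hq => rw [map_add]; exact add_mem hp hq
  | mul_X p y hp => rw [map_mul, mul_comm]; exact hmul y _ hp

end Span

section Indep

/-- The weight of a basis monomial. -/
def deg : Idx m → ℕ
  | none => 0
  | some (.inl k) => k + 2
  | some (.inr (_, k)) => k + 1

open PowerSeries in
theorem linearIndependent_cmon (H : Rel v) (i₀ : Fin m) : LinearIndependent R (cmon R m v) := by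
  classical
  rw [linearIndependent_iff]
  intro l hl
  by_contra hl0
  obtain ⟨b₀, hb₀, hmax⟩ := l.support.exists_max_image deg (Finsupp.support_nonempty_iff.2 hl0)
  rw [Finsupp.mem_support_iff] at hb₀
  set D := deg b₀ with hD
  let T := algebraMap (PowerSeries R) (Lau R) PowerSeries.X
  let val : Option (CVar m) → Idx m → R := fun β b =>
    match b with
    | none => 1
    | some (.inl k) => lead β CVar.x2 ^ (k + 1) * lead β CVar.x3
    | some (.inr (y, k)) => lead β y ^ (k + 1)
  have key : ∀ β, ∑ b ∈ l.support, (if deg b = D then l b * val β b else 0) = 0 := by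
    intro β
    obtain ⟨f, hf, hsol⟩ := exists_branch H i₀ β
    have hker : ∀ p ∈ Ideal.span (CRel R m v), MvPolynomial.aeval (pt f) p = (0 : Lau R) := by
      suffices Ideal.span (CRel R m v) ≤ RingHom.ker (MvPolynomial.aeval (R := R) (pt f)).toRingHom from
        fun p hp => this hp
      rw [Ideal.span_le]
      have hC : ∀ r : R, algebraMap R (Lau R) r = cst r := fun r => by
        rw [IsScalarTower.algebraMap_apply R (PowerSeries R) (Lau R)]; simp [cst]
      rintro p ((⟨i, rfl⟩ | ⟨i, rfl⟩) | ⟨⟨⟨i, j⟩, hij⟩, rfl⟩)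
      · have h := hsol.r1 i
        simp only [R1] at h
        show MvPolynomial.aeval (pt f) _ = 0
        simp only [map_add, map_mul, map_sub, MvPolynomial.aeval_X, MvPolynomial.aeval_C, hC]
        linear_combination h
      · have h := hsol.r2 i
        simp only [R2, A] at h
        show MvPolynomial.aeval (pt f) _ = 0
        simp only [map_add, map_mul, map_sub, MvPolynomial.aeval_X, MvPolynomial.aeval_C, hC]
        linear_combination h
      · have h := hsol.rr i j hij
        simp only [RR] at h
        show MvPolynomial.aeval (pt f) _ = 0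
        simp only [map_add, map_mul, map_sub, MvPolynomial.aeval_X, MvPolynomial.aeval_C, hC]
        linear_combination h
    let φ : CurveAlg R m v →ₐ[R] Lau R := Ideal.Quotient.liftₐ _ (MvPolynomial.aeval (pt f)) hker
    let F : Idx m → PowerSeries R := fun b =>
      match b with
      | none => 1
      | some (.inl k) => f CVar.x2 ^ (k + 1) * f CVar.x3
      | some (.inr (y, k)) => f y ^ (k + 1)
    have hφy : ∀ y, φ (pr v y) = pt f y := fun y => by
      show MvPolynomial.aeval (pt f) (MvPolynomial.X y) = _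
      rw [MvPolynomial.aeval_X]
    have ht : ∀ n : ℕ, T ^ n * inv R ^ n = 1 := fun n => by
      rw [← mul_pow, show T * inv R = 1 from mul_inv_self, one_pow]
    have hφb : ∀ b, φ (cmon R m v b) * T ^ deg b = algebraMap (PowerSeries R) (Lau R) (F b) := by
      intro b
      rcases b with - | k | ⟨y, k⟩
      · simp [cmon_none, F, deg]
      · rw [cmon_inl, map_mul, map_pow, hφy, hφy]
        simp only [F, deg, pt, map_mul, map_pow]
        linear_combination algebraMap (PowerSeries R) (Lau R) (f CVar.x2) ^ (k + 1) *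
          algebraMap (PowerSeries R) (Lau R) (f CVar.x3) * ht (k + 2)
      · rw [cmon_inr, map_pow, hφy]
        simp only [F, deg, pt, map_pow]
        linear_combination algebraMap (PowerSeries R) (Lau R) (f y) ^ (k + 1) * ht (k + 1)
    have h0 : ∑ b ∈ l.support, PowerSeries.C (l b) * PowerSeries.X ^ (D - deg b) * F b = 0 := by
      refine lau_injective ?_
      rw [map_sum, map_zero]
      have h1 := congrArg (fun z => φ z * T ^ D) hl
      simp only [Finsupp.linearCombination_apply, Finsupp.sum, map_sum, map_smul, map_zero, zero_mul,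
        Finset.sum_mul] at h1
      rw [← h1]
      refine Finset.sum_congr rfl fun b hb => ?_
      rw [map_mul, map_mul, map_pow, ← hφb, Algebra.smul_def,
        IsScalarTower.algebraMap_apply R (PowerSeries R) (Lau R),
        show T ^ D = T ^ (D - deg b) * T ^ deg b by rw [← pow_add, Nat.sub_add_cancel (hmax b hb)]]
      simp only [T, PowerSeries.algebraMap_apply, Algebra.algebraMap_self, RingHom.id_apply]
      ring
    have h2 := congrArg PowerSeries.constantCoeff h0
    rw [map_sum, map_zero] at h2
    refine Eq.trans ?_ h2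
    refine Finset.sum_congr rfl fun b hb => ?_
    rw [map_mul, map_mul, map_pow, PowerSeries.constantCoeff_C, PowerSeries.constantCoeff_X]
    have hFv : PowerSeries.constantCoeff (F b) = val β b := by
      rcases b with - | k | ⟨y, k⟩
      · exact map_one _
      · simp only [F, val, map_mul, map_pow, hf]
      · simp only [F, val, map_pow, hf]
    rcases eq_or_ne (deg b) D with h | h
    · rw [if_pos h, h, Nat.sub_self, pow_zero, mul_one, hFv]
    · rw [if_neg h, zero_pow (Nat.sub_ne_zero_of_lt (lt_of_le_of_ne (hmax b hb) h)), mul_zero, zero_mul]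
  have hinr : ∀ y k, deg (some (Sum.inr (y, k)) : Idx m) = D → l (some (Sum.inr (y, k))) = 0 := by
    intro y k hk
    have h := key (some y)
    rw [Finset.sum_eq_single (some (Sum.inr (y, k)))] at h
    · rw [if_pos hk] at h
      cases y <;> simpa [val, lead] using h
    · intro b _ hne
      split_ifs with hb
      · rcases b with - | j | ⟨z, j⟩
        · simp [deg] at hb hk; omega
        · cases y <;> simp [val, lead]
        · simp only [deg] at hb hk
          obtain rfl : j = k := by omega
          have hzy : z ≠ y := fun h => hne (by rw [h])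
          cases y with
          | x2 => cases z with
            | x2 => exact absurd rfl hzy
            | x3 => simp [val, lead]
            | xi i => simp [val, lead]
          | x3 => cases z with
            | x2 => simp [val, lead]
            | x3 => exact absurd rfl hzy
            | xi i => simp [val, lead]
          | xi i' => cases z with
            | x2 => simp [val, lead]
            | x3 => simp [val, lead]
            | xi i =>
              have : i' ≠ i := fun h => hzy (by rw [h])
              simp [val, lead, this]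
      · rfl
    · intro hn
      rw [Finsupp.notMem_support_iff.1 hn]
      simp
  have h := key none
  rw [Finset.sum_eq_single b₀] at h
  · rw [if_pos hD.symm] at h
    have : val none b₀ = 1 := by
      rcases b₀ with - | j | ⟨z, j⟩ <;> simp [val, lead]
    exact hb₀ (by simpa [this] using h)
  · intro b _ hne
    split_ifs with hb
    · rcases b with - | j | ⟨z, j⟩
      · rcases b₀ with - | j' | ⟨z', j'⟩
        · exact absurd rfl hne
        · simp [deg] at hb hD; omega
        · simp [deg] at hb hD; omega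
      · rcases b₀ with - | j' | ⟨z', j'⟩
        · simp [deg] at hb hD; omega
        · simp only [deg] at hb hD
          exact absurd (by rw [show j = j' by omega]) hne
        · exact absurd (hinr z' j' hD.symm) hb₀
      · rw [hinr z j hb, zero_mul]
    · rfl
  · intro hn
    rw [Finsupp.notMem_support_iff.1 hn]
    simp

end Indep

section Necessity

theorem rel_of_linearIndependent (hli : LinearIndependent R (cmon R m v)) : Rel v := by
  classical
  have coef : ∀ {n : ℕ} (e : Fin n → Idx m), Function.Injective e → ∀ g : Fin n → R,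
      ∑ t, algebraMap R (CurveAlg R m v) (g t) * cmon R m v (e t) = 0 → ∀ t, g t = 0 := by
    intro n e he g hg
    refine Fintype.linearIndependent_iff.1 (hli.comp e he) g ?_
    rw [← hg]
    refine Finset.sum_congr rfl fun t _ => ?_
    simp only [Function.comp_apply]
    generalize cmon R m v (e t) = z
    obtain ⟨p, rfl⟩ := Ideal.Quotient.mk_surjective z
    rw [← mk_C, ← map_mul, ← MvPolynomial.smul_eq_C_mul]
    rfl
  have hneg : (-1 : CurveAlg R m v) = algebraMap R _ (-1) := by simp
  have hpair : ∀ i j (h : i ≠ j),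
      (v (.cij i j h) + v (.cij j i h.symm) = v .a + v (.ci i) + v (.cbi i) + v (.ci j) + v (.cbi j)) ∧
      (v (.cij j i h.symm) * v (.ci j) + v (.cij i j h) * v (.ci i) - v (.ci i) * v (.ci j) = v .c) ∧
      (v (.cij j i h.symm) * v (.cbi i) + v (.cij i j h) * v (.cbi j) - v (.cbi i) * v (.cbi j) = v .cb) := by
    intro i j h
    have hij : _ = _ := pr_rr (v := v) i j h
    have h1 : _ = _ := pr_r1 (v := v) i
    have h2 : _ = _ := pr_r2 (v := v) i
    have h1j : _ = _ := pr_r1 (v := v) j
    simp only [wv, A] at hij h1 h2 h1j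
    obtain ⟨g3, ov⟩ := overlap_pair_alg (R := R) (L := CurveAlg R m v) (a := v .a) (c := v .c)
      (cb := v .cb) (ci := v (.ci i)) (cj := v (.ci j)) (bi := v (.cbi i)) (bj := v (.cbi j))
      (cij := v (.cij i j h)) (cji := v (.cij j i h.symm))
      (x2 := pr v .x2) (x3 := pr v .x3) (xi := pr v (.xi i)) (xj := pr v (.xi j))
      (by linear_combination hij) (by linear_combination h1) (by linear_combination h2)
      (by linear_combination h1j)
    have h0 := coef (e := ![some (.inl 0), some (.inr (.xi i, 0)), some (.inr (.x2, 0)), none])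
      (by intro x y; fin_cases x <;> fin_cases y <;> simp) ![_, _, _, g3]
      (by simp only [Fin.sum_univ_four, Matrix.cons_val, cmon_none, cmon_inl, cmon_inr, zero_add, pow_one]; exact ov)
    have hP := h0 0
    have hQ := h0 1
    have hR := h0 2
    simp only [Matrix.cons_val] at hP hQ hR
    refine ⟨by linear_combination hP, by linear_combination v (.ci i) * hP - hQ, by linear_combination hR⟩
  refine ⟨fun i j h => (hpair i j h).1, fun i j h => (hpair i j h).2.1, fun i j h => (hpair i j h).2.2,
    fun j k i hjk hki hji => ?_⟩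
  have hij := hji.symm
  have hik := hki.symm
  have r_ij : _ = _ := pr_rr (v := v) i j hij
  have r_ik : _ = _ := pr_rr (v := v) i k hik
  have r_jk : _ = _ := pr_rr (v := v) j k hjk
  have h1 : _ = _ := pr_r1 (v := v) i
  have h2 : _ = _ := pr_r2 (v := v) i
  simp only [wv, A] at r_ij r_ik r_jk h1 h2
  obtain ⟨g0, g2, g3, g4, g5, ov⟩ := overlap_triple_alg (R := R) (L := CurveAlg R m v) (a := v .a) (c := v .c)
    (cb := v .cb) (ci := v (.ci i)) (bi := v (.cbi i)) (cj := 0) (ck := 0) (bj := 0) (bk := 0)
    (cij := v (.cij i j hij)) (cik := v (.cij i k hik)) (cjk := v (.cij j k hjk))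
    (cji := v (.cij j i hij.symm)) (cki := v (.cij k i hik.symm)) (ckj := v (.cij k j hjk.symm))
    (x2 := pr v .x2) (x3 := pr v .x3) (xi := pr v (.xi i)) (xj := pr v (.xi j)) (xk := pr v (.xi k))
    (by linear_combination r_ij) (by linear_combination r_ik) (by linear_combination r_jk)
    (by linear_combination h1) (by linear_combination h2)
  have h0 := coef (e := ![some (.inl 1), some (.inr (.xi i, 1)), some (.inl 0),
      some (.inr (.xi i, 0)), some (.inr (.x2, 0)), none])
    (by intro x y; fin_cases x <;> fin_cases y <;> simp) ![g0, _, g2, g3, g4, g5]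
    (by simp only [Fin.sum_univ_six, Matrix.cons_val, cmon_none, cmon_inl, cmon_inr, zero_add, pow_one, pow_two, one_add_one_eq_two]; exact ov) 1
  simp only [Matrix.cons_val] at h0
  linear_combination -h0

end Necessity

theorem rel_iff : Rel v ↔ ∀ p ∈ URel R m, MvPolynomial.eval v p = 0 := by
  constructor
  · rintro H p (((⟨⟨⟨i, j⟩, h⟩, rfl⟩ | ⟨⟨⟨i, j⟩, h⟩, rfl⟩) | ⟨⟨⟨i, j⟩, h⟩, rfl⟩) | ⟨⟨⟨i, j, k⟩, hij, hjk, hik⟩, rfl⟩)
    all_goals simp only [map_add, map_sub, map_mul, MvPolynomial.eval_X]
    · linear_combination H.lin i j h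
    · linear_combination H.qc i j h
    · linear_combination H.qb i j h
    · linear_combination H.tri i j k hij hjk hik
  · intro H
    refine ⟨fun i j h => ?_, fun i j h => ?_, fun i j h => ?_, fun i j k hij hjk hik => ?_⟩
    · have := H _ (Or.inl (Or.inl (Or.inl ⟨⟨(i, j), h⟩, rfl⟩)))
      simp only [map_add, map_sub, MvPolynomial.eval_X] at this
      linear_combination this
    · have := H _ (Or.inl (Or.inl (Or.inr ⟨⟨(i, j), h⟩, rfl⟩)))
      simp only [map_add, map_sub, map_mul, MvPolynomial.eval_X] at this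
      linear_combination this
    · have := H _ (Or.inl (Or.inr ⟨⟨(i, j), h⟩, rfl⟩))
      simp only [map_add, map_sub, map_mul, MvPolynomial.eval_X] at this
      linear_combination this
    · have := H _ (Or.inr ⟨⟨(i, j, k), hij, hjk, hik⟩, rfl⟩)
      simp only [map_add, map_sub, map_mul, MvPolynomial.eval_X] at this
      linear_combination this

end Groth.Agent.H23Un
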