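import Mathlib

/-! # Identities for the curves over U_n -/

set_option autoImplicit false

namespace Groth.Agent.H23Un

variable {L : Type*} [CommRing L]

theorem cubic {a c cb ci bi x2 x3 xi : L} (h1i : ((-1) * bi * x2 + c + (-1) * ci * xi + (-1) * x2 * x3 + x2 * xi) = 0) (h2i : (a * bi + (-1) * a * xi + bi * bi + bi * ci + (-1) * bi * xi + c + (-1) * cb + (-1) * ci * xi + (-1) * x2 * x3 + x3 * xi) = 0) :
    ((-1) * a * bi * ci + a * c + (-1) * a * x2 * x3 + (-1) * bi * bi * ci + bi * c + (-1) * bi * ci * ci + c * x2 + (-1) * c * x3 + cb * ci + (-1) * cb * x2 + (-1) * x2 * x2 * x3 + x2 * x3 * x3) = 0 := by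
  linear_combination ((-1) * ci + x2) * h2i - ((-1) * a + (-1) * bi + (-1) * ci + x3) * h1i

theorem r2_of_r1 {a c cb ci bi x2 x3 xi : L} (hu : IsUnit (x2 - ci)) (h1i : ((-1) * bi * x2 + c + (-1) * ci * xi + (-1) * x2 * x3 + x2 * xi) = 0) (hK : ((-1) * a * bi * ci + a * c + (-1) * a * x2 * x3 + (-1) * bi * bi * ci + bi * c + (-1) * bi * ci * ci + c * x2 + (-1) * c * x3 + cb * ci + (-1) * cb * x2 + (-1) * x2 * x2 * x3 + x2 * x3 * x3) = 0) :
    (a * bi + (-1) * a * xi + bi * bi + bi * ci + (-1) * bi * xi + c + (-1) * cb + (-1) * ci * xi + (-1) * x2 * x3 + x3 * xi) = 0 := by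
  refine hu.mul_right_eq_zero.1 ?_
  linear_combination hK + ((-1) * a + (-1) * bi + (-1) * ci + x3) * h1i

theorem r1_of_r2 {a c cb ci bi x2 x3 xi : L} (hu : IsUnit (x3 - (a + bi + ci))) (h2i : (a * bi + (-1) * a * xi + bi * bi + bi * ci + (-1) * bi * xi + c + (-1) * cb + (-1) * ci * xi + (-1) * x2 * x3 + x3 * xi) = 0) (hK : ((-1) * a * bi * ci + a * c + (-1) * a * x2 * x3 + (-1) * bi * bi * ci + bi * c + (-1) * bi * ci * ci + c * x2 + (-1) * c * x3 + cb * ci + (-1) * cb * x2 + (-1) * x2 * x2 * x3 + x2 * x3 * x3) = 0) :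
    ((-1) * bi * x2 + c + (-1) * ci * xi + (-1) * x2 * x3 + x2 * xi) = 0 := by
  refine hu.mul_right_eq_zero.1 ?_
  linear_combination ((-1) * ci + x2) * h2i - hK

theorem d_eq {a c cb ci cj bi bj cij cji : L} (hl : cji = (a + bi + bj + ci + (-1) * cij + cj)) (hq : ((-1) * c + ci * cij + (-1) * ci * cj + cj * cji) = 0) (hb : ((-1) * bi * bj + bi * cji + bj * cij + (-1) * cb) = 0) :
    (a * bi * ci + (-1) * a * c + bi * bi * ci + (-1) * bi * c + bi * ci * ci + (-1) * cb * ci) = (a * bj * cj + (-1) * a * c + bj * bj * cj + (-1) * bj * c + bj * cj * cj + (-1) * cb * cj) := by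
  linear_combination ((-1) * bi * ci + bj * cj) * (hl) + (bi + (-1) * bj) * hq + (ci + (-1) * cj) * hb

theorem rij_of_r1 {a c cb ci cj bi bj cij cji : L} {x2 x3 xi xj : L} (hu : IsUnit (x2 - ci)) (hu' : IsUnit (x2 - cj)) (hl : cji = (a + bi + bj + ci + (-1) * cij + cj)) (hq : ((-1) * c + ci * cij + (-1) * ci * cj + cj * cji) = 0) (hb : ((-1) * bi * bj + bi * cji + bj * cij + (-1) * cb) = 0)
    (h1i : ((-1) * bi * x2 + c + (-1) * ci * xi + (-1) * x2 * x3 + x2 * xi) = 0) (h1j : ((-1) * bj * x2 + c + (-1) * cj * xj + (-1) * x2 * x3 + x2 * xj) = 0) (hK : ((-1) * a * bi * ci + a * c + (-1) * a * x2 * x3 + (-1) * bi * bi * ci + bi * c + (-1) * bi * ci * ci + c * x2 + (-1) * c * x3 + cb * ci + (-1) * cb * x2 + (-1) * x2 * x2 * x3 + x2 * x3 * x3) = 0) :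
    (c + (-1) * cij * xj + (-1) * cji * xi + (-1) * x2 * x3 + xi * xj) = 0 := by
  refine (hu.mul hu').mul_right_eq_zero.1 ?_
  linear_combination (cj * cji + (-1) * cj * xj + (-1) * cji * x2 + x2 * xj) * h1i + (bi * x2 + (-1) * c + ci * cij + (-1) * cij * x2 + x2 * x3) * h1j + (x2) * hK + ((-1) * bi * ci * x2 + c * x2 + (-1) * x2 * x2 * x3) * (hl) + (bi * x2 + (-1) * c + x2 * x3) * hq + (ci * x2 + (-1) * x2 * x2) * hb

theorem rij_of_r2 {a c cb ci cj bi bj cij cji : L} {x2 x3 xi xj : L} (hu : IsUnit (x3 - (a + bi + ci))) (hu' : IsUnit (x3 - (a + bj + cj))) (hl : cji = (a + bi + bj + ci + (-1) * cij + cj)) (hq : ((-1) * c + ci * cij + (-1) * ci * cj + cj * cji) = 0) (hb : ((-1) * bi * bj + bi * cji + bj * cij + (-1) * cb) = 0)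
    (h2i : (a * bi + (-1) * a * xi + bi * bi + bi * ci + (-1) * bi * xi + c + (-1) * cb + (-1) * ci * xi + (-1) * x2 * x3 + x3 * xi) = 0) (h2j : (a * bj + (-1) * a * xj + bj * bj + bj * cj + (-1) * bj * xj + c + (-1) * cb + (-1) * cj * xj + (-1) * x2 * x3 + x3 * xj) = 0) (hK : ((-1) * a * bi * ci + a * c + (-1) * a * x2 * x3 + (-1) * bi * bi * ci + bi * c + (-1) * bi * ci * ci + c * x2 + (-1) * c * x3 + cb * ci + (-1) * cb * x2 + (-1) * x2 * x2 * x3 + x2 * x3 * x3) = 0) :
    (c + (-1) * cij * xj + (-1) * cji * xi + (-1) * x2 * x3 + xi * xj) = 0 := by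
  refine (hu.mul hu').mul_right_eq_zero.1 ?_
  linear_combination (a * cji + (-1) * a * xj + bj * cji + (-1) * bj * xj + cj * cji + (-1) * cj * xj + (-1) * cji * x3 + x3 * xj) * h2i + ((-1) * a * bi + a * cij + (-1) * bi * bi + (-1) * bi * ci + bi * cij + (-1) * c + cb + ci * cij + (-1) * cij * x3 + x2 * x3) * h2j + (a + bi + bj + ci + (-1) * cij + cj + (-1) * cji + (-1) * x3) * hK + ((-1) * a * bi * ci + a * cb + (-1) * bi * bi * ci + (-1) * bi * bj * cj + (-1) * bi * bj * x3 + bi * c + bi * cb + (-1) * bi * ci * ci + (-1) * bi * ci * cij + bi * ci * cj + bi * ci * x3 + bi * x2 * x3 + (-1) * bj * c + bj * cb + bj * cij * cj + bj * x2 * x3 + c * x2 + cb * ci + (-1) * cb * cj + (-1) * cb * x2 + (-1) * cb * x3 + (-1) * x2 * x2 * x3) * (hl) + ((-1) * a * bi + (-1) * bi * bi + (-1) * bi * ci + bi * cij + (-1) * bi * cj + (-1) * bi * x3 + (-1) * bj * cij + (-1) * c + (2) * cb + x2 * x3) * hq + ((-1) * a * a + (-1) * a * bi + (-1) * a * bj + (-1) * a *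 ci + a * x3 + (-1) * bi * bj + bi * x3 + (-1) * bj * ci + bj * cj + bj * x3 + (-1) * cb + ci * cij + (-1) * ci * cj + (-1) * cij * cj + cj * cj + cj * x3 + (-1) * x2 * x3) * hb

theorem r1_axis {a c cb ci cj bi bj cij cji : L} {x2 x3 xi xj : L} (hu : IsUnit (xi - cij)) (hl : cji = (a + bi + bj + ci + (-1) * cij + cj)) (hq : ((-1) * c + ci * cij + (-1) * ci * cj + cj * cji) = 0) (hb : ((-1) * bi * bj + bi * cji + bj * cij + (-1) * cb) = 0)
    (hij : (c + (-1) * cij * xj + (-1) * cji * xi + (-1) * x2 * x3 + xi * xj) = 0) (h1i : ((-1) * bi * x2 + c + (-1) * ci * xi + (-1) * x2 * x3 + x2 * xi) = 0) (h2i : (a * bi + (-1) * a * xi + bi * bi + bi * ci + (-1) * bi * xi + c + (-1) * cb + (-1) * ci * xi + (-1) * x2 * x3 + x3 * xi) = 0) :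
    ((-1) * bj * x2 + c + (-1) * cj * xj + (-1) * x2 * x3 + x2 * xj) = 0 := by
  have hK := cubic h1i h2i
  refine hu.mul_right_eq_zero.1 ?_
  linear_combination ((-1) * cj + x2) * hij + ((-1) * bj + cji + (-1) * x3) * h1i + ((-1) * ci) * h2i + ((-1) * 1) * hK + ((-1) * c + ci * xi + x2 * x3) * (hl) + ((-1) * xi) * hq + (x2) * hb

theorem r2_axis {a c cb ci cj bi bj cij cji : L} {x2 x3 xi xj : L} (hu : IsUnit (xi - cij)) (hl : cji = (a + bi + bj + ci + (-1) * cij + cj)) (hq : ((-1) * c + ci * cij + (-1) * ci * cj + cj * cji) = 0) (hb : ((-1) * bi * bj + bi * cji + bj * cij + (-1) * cb) = 0)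
    (hij : (c + (-1) * cij * xj + (-1) * cji * xi + (-1) * x2 * x3 + xi * xj) = 0) (h1i : ((-1) * bi * x2 + c + (-1) * ci * xi + (-1) * x2 * x3 + x2 * xi) = 0) (h2i : (a * bi + (-1) * a * xi + bi * bi + bi * ci + (-1) * bi * xi + c + (-1) * cb + (-1) * ci * xi + (-1) * x2 * x3 + x3 * xi) = 0) :
    (a * bj + (-1) * a * xj + bj * bj + bj * cj + (-1) * bj * xj + c + (-1) * cb + (-1) * cj * xj + (-1) * x2 * x3 + x3 * xj) = 0 := by
  have hK := cubic h1i h2i
  refine hu.mul_right_eq_zero.1 ?_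
  linear_combination ((-1) * a + (-1) * bj + (-1) * cj + x3) * hij + ((-1) * x3) * h1i + ((-1) * ci + cji) * h2i + (bi * bj + (-1) * bi * ci + (-1) * bj * xi + (-1) * c + cb + ci * xi + x2 * x3) * (hl) + (bi + (-1) * xi) * hq + ((-1) * a + (-1) * bi + (-1) * bj + (-1) * cj + xi) * hb

theorem rjk_axis {a c cb ci cj ck bi bj bk cij cik cjk cji cki ckj : L} {x2 x3 xi xj xk : L} (hu : IsUnit (xi - cij)) (hu' : IsUnit (xi - cik))
    (hji : cji = (a + bi + bj + ci + (-1) * cij + cj)) (hki : cki = (a + bi + bk + ci + (-1) * cik + ck)) (hkj : ckj = (a + bj + bk + cj + (-1) * cjk + ck))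
    (hq_ij : ((-1) * c + ci * cij + (-1) * ci * cj + cj * cji) = 0) (hq_ik : ((-1) * c + ci * cik + (-1) * ci * ck + ck * cki) = 0) (hq_jk : ((-1) * c + cj * cjk + (-1) * cj * ck + ck * ckj) = 0) (hb_ij : ((-1) * bi * bj + bi * cji + bj * cij + (-1) * cb) = 0) (hb_ik : ((-1) * bi * bk + bi * cki + bk * cik + (-1) * cb) = 0) (hb_jk : ((-1) * bj * bk + bj * ckj + bk * cjk + (-1) * cb) = 0) (hT_ijk : (a * ck + bk * ck + (-1) * c + cij * cjk + cik * cji + (-1) * cik * cjk + ck * ck) = 0)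
    (hij : (c + (-1) * cij * xj + (-1) * cji * xi + (-1) * x2 * x3 + xi * xj) = 0) (hik : (c + (-1) * cik * xk + (-1) * cki * xi + (-1) * x2 * x3 + xi * xk) = 0) (h1i : ((-1) * bi * x2 + c + (-1) * ci * xi + (-1) * x2 * x3 + x2 * xi) = 0) (h2i : (a * bi + (-1) * a * xi + bi * bi + bi * ci + (-1) * bi * xi + c + (-1) * cb + (-1) * ci * xi + (-1) * x2 * x3 + x3 * xi) = 0) :
    (c + (-1) * cjk * xk + (-1) * ckj * xj + (-1) * x2 * x3 + xj * xk) = 0 := by
  have hK := cubic h1i h2i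
  subst hji hki hkj
  refine (hu.mul hu').mul_right_eq_zero.1 ?_
  linear_combination (a * cik + (-1) * a * xi + bj * cik + (-1) * bj * xi + bk * cik + (-1) * bk * xi + cik * cj + (-1) * cik * cjk + cik * ck + (-1) * cik * xk + (-1) * cj * xi + cjk * xi + (-1) * ck * xi + xi * xk) * hij + (a * xi + bi * xi + bj * xi + (-1) * c + ci * xi + cij * cjk + (-1) * cij * xi + cj * xi + (-1) * cjk * xi + x2 * x3) * hik + (a * x3 + bi * x3 + ci * x3 + (-1) * x3 * x3 + (-1) * x3 * xi) * h1i + (c + (-1) * ci * x3 + (-1) * ci * xi) * h2i + ((-1) * x3) * hK + (a * xi + bk * xi + (-1) * cij * xi + (-1) * cik * xi + cj * xi + ck * xi + xi * xi) * hq_jk + (bj * xi + cik * xi + (-1) * cjk * xi + (-1) * xi * xi) * hq_ij + (a * xi + (2) * bi * xi + (-1) * c + (2) * ci * xi + x2 * x3 + (-1) * xi * xi) * hT_ijk + (cij * xi + cik * xi + (-1) * cj * xi + (-1) * xi * xi) * hb_jk + ((-1) * a * xi + (-1) * bi * xi + (-1) * bj * xi + (-1) * ci * xi + (-1) * cik * xi + cjk *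 xi + xi * xi) * hb_ij + ((-2) * a * xi + (-1) * bi * xi + (-1) * bj * xi + (-1) * bk * xi + c + (-2) * ci * xi + cij * xi + (-1) * cj * xi + cjk * xi + (-1) * ck * xi + (-1) * x2 * x3) * hq_ik + (a * xi + bi * xi + bj * xi + (-1) * c + (2) * ci * xi + (-1) * cij * xi + cj * xi + (-1) * cjk * xi + x2 * x3) * hb_ik

theorem overlap_pair {a c cb ci cj bi bj cij cji : L} {x2 x3 xi xj : L}
    (hij : (c + (-1) * cij * xj + (-1) * cji * xi + (-1) * x2 * x3 + xi * xj) = 0) (h1i : ((-1) * bi * x2 + c + (-1) * ci * xi + (-1) * x2 * x3 + x2 * xi) = 0) (h2i : (a * bi + (-1) * a * xi + bi * bi + bi * ci + (-1) * bi * xi + c + (-1) * cb + (-1) * ci * xi + (-1) * x2 * x3 + x3 * xi) = 0) (h1j : ((-1) * bj * x2 + c + (-1) * cj * xj + (-1) * x2 * x3 + x2 * xj) = 0) :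
    ((-1) * a + (-1) * bi + (-1) * bj + (-1) * ci + cij + (-1) * cj + cji) * (x2 * x3) + ((-1) * a * ci + (-1) * bi * ci + (-1) * bj * ci + c + (-1) * ci * ci + ci * cji + (-1) * cj * cji) * (xi) + ((-1) * bi * bj + bi * cji + bj * cij + (-1) * cb) * (x2) + (a * c + bi * c + bj * c + c * ci + (-1) * c * cij + c * cj + (-1) * c * cji) * (1) = 0 := by
  have hK := cubic h1i h2i
  linear_combination ((-1) * cij + xi) * h1j - (((-1) * cj + x2) * hij + ((-1) * bj + cji + (-1) * x3) * h1i + ((-1) * ci) * h2i + ((-1) * 1) * hK)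

theorem overlap_triple {a c cb ci cj ck bi bj bk cij cik cjk cji cki ckj : L} {x2 x3 xi xj xk : L}
    (hij : (c + (-1) * cij * xj + (-1) * cji * xi + (-1) * x2 * x3 + xi * xj) = 0) (hik : (c + (-1) * cik * xk + (-1) * cki * xi + (-1) * x2 * x3 + xi * xk) = 0) (hjk : (c + (-1) * cjk * xk + (-1) * ckj * xj + (-1) * x2 * x3 + xj * xk) = 0) (h1i : ((-1) * bi * x2 + c + (-1) * ci * xi + (-1) * x2 * x3 + x2 * xi) = 0) (h2i : (a * bi + (-1) * a * xi + bi * bi + bi * ci + (-1) * bi * xi + c + (-1) * cb + (-1) * ci * xi + (-1) * x2 * x3 + x3 * xi) = 0) :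
    ((-1) * a + (-2) * bi + (-2) * ci + cij + cik + cji + (-1) * cjk + cki + (-1) * ckj) * (x2 * x2 * x3) + ((-1) * a * ci + (-1) * bi * ci + c + (-1) * ci * ci + cji * cki + (-1) * cji * ckj + (-1) * cjk * cki) * (xi * xi) + ((-1) * a * a + (-2) * a * bi + (-3) * a * ci + a * cij + a * cik + a * cji + (-1) * a * cjk + a * cki + (-1) * a * ckj + (-1) * bi * bi + (-3) * bi * ci + bi * cij + bi * cik + bi * cji + (-1) * bi * cjk + bi * cki + (-1) * bi * ckj + (-1) * cb + (-2) * ci * ci + ci * cij + ci * cik + ci * cji + (-1) * ci * cjk + ci * cki + (-1) * ci * ckj + (-1) * cij * cik + cij * cjk + cik * ckj) * (x2 * x3) + ((-1) * a * a * ci + (-2) * a * bi * ci + a * c + (-3) * a * ci * ci + a * ci * cij + a * ci * cik + a * ci * cji + (-1) * a * ci * cjk + a * ci * cki + (-1) * a * ci * ckj + (-1) * bi * bi * ci + bi * c + (-3) * bi * ci * ci + bi * ci * cij + bi * ci * cik + bi * ci * cji + (-1) * bi * ci * cjk + bi * ci * cki + (-1) * bi * ci * ckj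 + (2) * c * ci + (-1) * c * cij + (-1) * c * cik + (-1) * c * cji + c * cjk + (-1) * c * cki + c * ckj + (-1) * cb * ci + (-2) * ci * ci * ci + ci * ci * cij + ci * ci * cik + ci * ci * cji + (-1) * ci * ci * cjk + ci * ci * cki + (-1) * ci * ci * ckj + cij * cjk * cki + cik * cji * ckj) * (xi) + (a * c + (-1) * a * cb + (2) * bi * c + (-2) * bi * cb + (2) * c * ci + (-1) * c * cij + (-1) * c * cik + (-1) * c * cji + c * cjk + (-1) * c * cki + c * ckj + (-2) * cb * ci + cb * cij + cb * cik + cb * cji + (-1) * cb * cjk + cb * cki + (-1) * cb * ckj) * (x2) + (a * a * c + (2) * a * bi * c + (3) * a * c * ci + (-1) * a * c * cij + (-1) * a * c * cik + (-1) * a * c * cji + a * c * cjk + (-1) * a * c * cki + a * c * ckj + bi * bi * c + (3) * bi * c * ci + (-1) * bi * c * cij + (-1) * bi * c * cik + (-1) * bi * c * cji + bi * c * cjk + (-1) * bi * c * cki + bi * c * ckj + c * cb + (2) * c * ci * ci + (-1) * c * ci * cij + (-1) * c * ci * cik + (-1) * c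 * ci * cji + c * ci * cjk + (-1) * c * ci * cki + c * ci * ckj + c * cij * cik + (-1) * c * cij * cjk + (-1) * c * cik * ckj) * (1) = 0 := by
  have hK := cubic h1i h2i
  linear_combination (cij * cik + (-1) * cij * xi + (-1) * cik * xi + xi * xi) * hjk - ((cik * ckj + (-1) * cik * xk + (-1) * ckj * xi + xi * xk) * hij + ((-1) * c + cij * cjk + cji * xi + (-1) * cjk * xi + x2 * x3) * hik + ((-1) * bi * x3 + (-1) * ci * x3 + cij * x3 + cik * x3 + cji * x3 + (-1) * cjk * x3 + cki * x3 + (-1) * ckj * x3 + (-1) * x3 * x3 + (-1) * x3 * xi) * h1i + ((-1) * a * ci + (-2) * bi * ci + c + (-2) * ci * ci + ci * cij + ci * cik + ci * cji + (-1) * ci * cjk + ci * cki + (-1) * ci * ckj + (-1) * ci * x3 + (-1) * ci * xi) * h2i + ((-1) * a + (-2) * bi + (-2) * ci + cij + cik + cji + (-1) * cjk + cki + (-1) * ckj + (-1) * x3) * hK)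

theorem overlap_pair_alg {R : Type*} [CommRing R] [Algebra R L] {a c cb ci cj bi bj cij cji : R} {x2 x3 xi xj : L}
    (hij : algebraMap R L c + (-1) * algebraMap R L cij * xj + (-1) * algebraMap R L cji * xi + (-1) * x2 * x3 + xi * xj = 0) (h1i : (-1) * algebraMap R L bi * x2 + algebraMap R L c + (-1) * algebraMap R L ci * xi + (-1) * x2 * x3 + x2 * xi = 0) (h2i : algebraMap R L a * algebraMap R L bi + (-1) * algebraMap R L a * xi + algebraMap R L bi * algebraMap R L bi + algebraMap R L bi * algebraMap R L ci + (-1) * algebraMap R L bi * xi + algebraMap R L c + (-1) * algebraMap R L cb + (-1) * algebraMap R L ci * xi + (-1) * x2 * x3 + x3 * xi = 0) (h1j : (-1) * algebraMap R L bj * x2 + algebraMap R L c + (-1) * algebraMap R L cj * xj + (-1) * x2 * x3 + x2 * xj = 0) :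
    ∃ g3 : R, (algebraMap R L) (((-1) * a + (-1) * bi + (-1) * bj + (-1) * ci + cij + (-1) * cj + cji) : R) * (x2 * x3) + (algebraMap R L) (((-1) * a * ci + (-1) * bi * ci + (-1) * bj * ci + c + (-1) * ci * ci + ci * cji + (-1) * cj * cji) : R) * (xi) + (algebraMap R L) (((-1) * bi * bj + bi * cji + bj * cij + (-1) * cb) : R) * (x2) + algebraMap R L g3 * (1) = 0 := by
  refine ⟨((a * c + bi * c + bj * c + c * ci + (-1) * c * cij + c * cj + (-1) * c * cji) : R), ?_⟩
  simp only [map_add, map_mul, map_neg, map_one, map_ofNat, map_zero]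
  linear_combination overlap_pair (a := algebraMap R L a) (c := algebraMap R L c) (cb := algebraMap R L cb) (ci := algebraMap R L ci) (cj := algebraMap R L cj) (bi := algebraMap R L bi) (bj := algebraMap R L bj) (cij := algebraMap R L cij) (cji := algebraMap R L cji) (x2 := x2) (x3 := x3) (xi := xi) (xj := xj) hij h1i h2i h1j

theorem overlap_triple_alg {R : Type*} [CommRing R] [Algebra R L] {a c cb ci cj ck bi bj bk cij cik cjk cji cki ckj : R} {x2 x3 xi xj xk : L}
    (hij : algebraMap R L c + (-1) * algebraMap R L cij * xj + (-1) * algebraMap R L cji * xi + (-1) * x2 * x3 + xi * xj = 0) (hik : algebraMap R L c + (-1) * algebraMap R L cik * xk + (-1) * algebraMap R L cki * xi + (-1) * x2 * x3 + xi * xk = 0) (hjk : algebraMap R L c + (-1) * algebraMap R L cjk * xk + (-1) * algebraMap R L ckj * xj + (-1) * x2 * x3 + xj * xk = 0) (h1i : (-1) * algebraMap R L bi * x2 + algebraMap R L c + (-1) * algebraMap R L ci * xi + (-1) * x2 * x3 + x2 * xi = 0)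 (h2i : algebraMap R L a * algebraMap R L bi + (-1) * algebraMap R L a * xi + algebraMap R L bi * algebraMap R L bi + algebraMap R L bi * algebraMap R L ci + (-1) * algebraMap R L bi * xi + algebraMap R L c + (-1) * algebraMap R L cb + (-1) * algebraMap R L ci * xi + (-1) * x2 * x3 + x3 * xi = 0) :
    ∃ g0 g2 g3 g4 g5 : R, algebraMap R L g0 * (x2 * x2 * x3) + (algebraMap R L) (((-1) * a * ci + (-1) * bi * ci + c + (-1) * ci * ci + cji * cki + (-1) * cji * ckj + (-1) * cjk * cki) : R) * (xi * xi) + algebraMap R L g2 * (x2 * x3) + algebraMap R L g3 * (xi) + algebraMap R L g4 * (x2) + algebraMap R L g5 * (1) = 0 := by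
  refine ⟨(((-1) * a + (-2) * bi + (-2) * ci + cij + cik + cji + (-1) * cjk + cki + (-1) * ckj) : R), (((-1) * a * a + (-2) * a * bi + (-3) * a * ci + a * cij + a * cik + a * cji + (-1) * a * cjk + a * cki + (-1) * a * ckj + (-1) * bi * bi + (-3) * bi * ci + bi * cij + bi * cik + bi * cji + (-1) * bi * cjk + bi * cki + (-1) * bi * ckj + (-1) * cb + (-2) * ci * ci + ci * cij + ci * cik + ci * cji + (-1) * ci * cjk + ci * cki + (-1) * ci * ckj + (-1) * cij * cik + cij * cjk + cik * ckj) : R), (((-1) * a * a * ci + (-2) * a * bi * ci + a * c + (-3) * a * ci * ci + a * ci * cij + a * ci * cik + a * ci * cji + (-1) * a * ci * cjk + a * ci * cki + (-1) * a * ci * ckj + (-1) * bi * bi * ci + bi * c + (-3) * bi * ci * ci + bi * ci * cij + bi * ci * cik + bi * ci * cji + (-1) * bi * ci * cjk + bi * ci * cki + (-1) * bi * ci * ckj + (2) * c * ci + (-1) * c * cij + (-1) * c * cik + (-1) * c * cji + c * cjk + (-1) * c * cki + c * ckj + (-1) * cb * ci + (-2)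 * ci * ci * ci + ci * ci * cij + ci * ci * cik + ci * ci * cji + (-1) * ci * ci * cjk + ci * ci * cki + (-1) * ci * ci * ckj + cij * cjk * cki + cik * cji * ckj) : R), ((a * c + (-1) * a * cb + (2) * bi * c + (-2) * bi * cb + (2) * c * ci + (-1) * c * cij + (-1) * c * cik + (-1) * c * cji + c * cjk + (-1) * c * cki + c * ckj + (-2) * cb * ci + cb * cij + cb * cik + cb * cji + (-1) * cb * cjk + cb * cki + (-1) * cb * ckj) : R), ((a * a * c + (2) * a * bi * c + (3) * a * c * ci + (-1) * a * c * cij + (-1) * a * c * cik + (-1) * a * c * cji + a * c * cjk + (-1) * a * c * cki + a * c * ckj + bi * bi * c + (3) * bi * c * ci + (-1) * bi * c * cij + (-1) * bi * c * cik + (-1) * bi * c * cji + bi * c * cjk + (-1) * bi * c * cki + bi * c * ckj + c * cb + (2) * c * ci * ci + (-1) * c * ci * cij + (-1) * c * ci * cik + (-1) * c * ci * cji + c * ci * cjk + (-1) * c * ci * cki + c * ci * ckj + c * cij * cik + (-1) * c * cij * cjk + (-1) * c * cik * ckj) : R),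 ?_⟩
  simp only [map_add, map_mul, map_neg, map_one, map_ofNat, map_zero]
  linear_combination overlap_triple (a := algebraMap R L a) (c := algebraMap R L c) (cb := algebraMap R L cb) (ci := algebraMap R L ci) (cj := algebraMap R L cj) (ck := algebraMap R L ck) (bi := algebraMap R L bi) (bj := algebraMap R L bj) (bk := algebraMap R L bk) (cij := algebraMap R L cij) (cik := algebraMap R L cik) (cjk := algebraMap R L cjk) (cji := algebraMap R L cji) (cki := algebraMap R L cki) (ckj := algebraMap R L ckj) (x2 := x2) (x3 := x3) (xi := xi) (xj := xj) (xk := xk) hij hik hjk h1i h2i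

end Groth.Agent.H23Un
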