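import Mathlib
import Groth.Prelude.Def_W4c5m1nsnscurvesC
import Groth.Agent.H23Un.Ident

/-!
# The branches at infinity of the curve over a point of U_n
-/

set_option autoImplicit false
universe u

open W4c5m1nsnscurves

namespace Groth.Agent.H23Un

variable {m : ℕ}

section Sol

variable {L : Type*} [CommRing L]

def A (w : UGen m → L) (i : Fin m) : L := w .a + w (.ci i) + w (.cbi i)

def dd (w : UGen m → L) (i : Fin m) : L :=
  -(A w i) * w .c + w (.ci i) * A w i * w (.cbi i) - w (.ci i) * (w .cb - w .c)

def R1 (w : UGen m → L) (x : CVar m → L) (i : Fin m) : Prop :=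
  x .x2 * x (.xi i) = x .x2 * x .x3 + w (.ci i) * x (.xi i) + w (.cbi i) * x .x2 - w .c

def R2 (w : UGen m → L) (x : CVar m → L) (i : Fin m) : Prop :=
  x .x3 * x (.xi i) = x .x2 * x .x3 + A w i * (x (.xi i) - w (.cbi i)) + w .cb - w .c

def RR (w : UGen m → L) (x : CVar m → L) (i j : Fin m) (h : i ≠ j) : Prop :=
  x (.xi i) * x (.xi j) =
    x .x2 * x .x3 + w (.cij i j h) * x (.xi j) + w (.cij j i h.symm) * x (.xi i) - w .c

def Cub (w : UGen m → L) (x : CVar m → L) (d : L) : Prop :=
  x .x2 * x .x3 ^ 2 - x .x2 ^ 2 * x .x3 =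
    w .a * x .x2 * x .x3 + (w .cb - w .c) * x .x2 + w .c * x .x3 + d

structure Rel (w : UGen m → L) : Prop where
  lin : ∀ i j (h : i ≠ j), w (.cij i j h) + w (.cij j i h.symm) =
    w .a + w (.ci i) + w (.cbi i) + w (.ci j) + w (.cbi j)
  qc : ∀ i j (h : i ≠ j), w (.cij j i h.symm) * w (.ci j) + w (.cij i j h) * w (.ci i) - w (.ci i) * w (.ci j) = w .c
  qb : ∀ i j (h : i ≠ j), w (.cij j i h.symm) * w (.cbi i) + w (.cij i j h) * w (.cbi j) - w (.cbi i) * w (.cbi j) = w .cb
  tri : ∀ i j k (hij : i ≠ j) (hjk : j ≠ k) (hik : i ≠ k),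
    w (.cij i j hij) * w (.cij j k hjk) + w (.cij j i hij.symm) * w (.cij i k hik) -
      w (.cij i k hik) * w (.cij j k hjk) + (w .a + w (.ci k) + w (.cbi k)) * w (.ci k) = w .c

theorem Rel.dd_eq {w : UGen m → L} (H : Rel w) (i j : Fin m) : dd w i = dd w j := by
  rcases eq_or_ne i j with rfl | h
  · rfl
  · have := d_eq (a := w .a) (c := w .c) (cb := w .cb) (ci := w (.ci i)) (cj := w (.ci j)) (bi := w (.cbi i))
      (bj := w (.cbi j)) (cij := w (.cij i j h)) (cji := w (.cij j i h.symm))
      (by linear_combination H.lin i j h) (by linear_combination H.qc i j h) (by linear_combination H.qb i j h)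
    unfold dd A
    linear_combination this

structure Sol (w : UGen m → L) (x : CVar m → L) : Prop where
  r1 : ∀ i, R1 w x i
  r2 : ∀ i, R2 w x i
  rr : ∀ i j h, RR w x i j h

theorem sol_of_r1 {w : UGen m → L} (H : Rel w) {x : CVar m → L} (i₀ : Fin m)
    (hu : ∀ i, IsUnit (x .x2 - w (.ci i))) (h1 : ∀ i, R1 w x i) (hK : Cub w x (dd w i₀)) : Sol w x := by
  unfold R1 at h1
  unfold Cub at hK
  have hKi : ∀ i, _ := fun i => H.dd_eq i₀ i ▸ hK
  unfold dd A at hKi
  refine ⟨h1, fun i => ?_, fun i j h => ?_⟩
  · unfold R2 A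
    linear_combination r2_of_r1 (a := w .a) (c := w .c) (cb := w .cb) (ci := w (.ci i)) (bi := w (.cbi i))
      (x2 := x .x2) (x3 := x .x3) (xi := x (.xi i)) (hu i) (by linear_combination h1 i) (by linear_combination hKi i)
  · unfold RR
    linear_combination rij_of_r1 (a := w .a) (c := w .c) (cb := w .cb) (ci := w (.ci i)) (cj := w (.ci j))
      (bi := w (.cbi i)) (bj := w (.cbi j)) (cij := w (.cij i j h)) (cji := w (.cij j i h.symm))
      (x2 := x .x2) (x3 := x .x3) (xi := x (.xi i)) (xj := x (.xi j)) (hu i) (hu j)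
      (by linear_combination H.lin i j h) (by linear_combination H.qc i j h) (by linear_combination H.qb i j h)
      (by linear_combination h1 i) (by linear_combination h1 j) (by linear_combination hKi i)

theorem sol_of_r2 {w : UGen m → L} (H : Rel w) {x : CVar m → L} (i₀ : Fin m)
    (hu : ∀ i, IsUnit (x .x3 - A w i)) (h2 : ∀ i, R2 w x i) (hK : Cub w x (dd w i₀)) : Sol w x := by
  have hu' : ∀ i, IsUnit (x .x3 - (w .a + w (.cbi i) + w (.ci i))) := fun i => by
    have := hu i
    rwa [A, add_right_comm] at this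
  unfold R2 A at h2
  unfold Cub at hK
  have hKi : ∀ i, _ := fun i => H.dd_eq i₀ i ▸ hK
  unfold dd A at hKi
  refine ⟨fun i => ?_, h2, fun i j h => ?_⟩
  · unfold R1
    linear_combination r1_of_r2 (a := w .a) (c := w .c) (cb := w .cb) (ci := w (.ci i)) (bi := w (.cbi i))
      (x2 := x .x2) (x3 := x .x3) (xi := x (.xi i)) (hu' i) (by linear_combination h2 i) (by linear_combination hKi i)
  · unfold RR
    linear_combination rij_of_r2 (a := w .a) (c := w .c) (cb := w .cb) (ci := w (.ci i)) (cj := w (.ci j))
      (bi := w (.cbi i)) (bj := w (.cbi j)) (cij := w (.cij i j h)) (cji := w (.cij j i h.symm))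
      (x2 := x .x2) (x3 := x .x3) (xi := x (.xi i)) (xj := x (.xi j)) (hu' i) (hu' j)
      (by linear_combination H.lin i j h) (by linear_combination H.qc i j h) (by linear_combination H.qb i j h)
      (by linear_combination h2 i) (by linear_combination h2 j) (by linear_combination hKi i)

theorem sol_of_axis {w : UGen m → L} (H : Rel w) {x : CVar m → L} (i : Fin m)
    (hu : ∀ j h, IsUnit (x (.xi i) - w (.cij i j h))) (h1 : R1 w x i) (h2 : R2 w x i)
    (hr : ∀ j h, RR w x i j h) : Sol w x := by
  unfold R1 at h1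
  unfold R2 A at h2
  unfold RR at hr
  refine ⟨fun j => ?_, fun j => ?_, fun j k hjk => ?_⟩
  · rcases eq_or_ne i j with rfl | h
    · exact h1
    unfold R1
    linear_combination r1_axis (a := w .a) (c := w .c) (cb := w .cb) (ci := w (.ci i)) (cj := w (.ci j))
      (bi := w (.cbi i)) (bj := w (.cbi j)) (cij := w (.cij i j h)) (cji := w (.cij j i h.symm))
      (x2 := x .x2) (x3 := x .x3) (xi := x (.xi i)) (xj := x (.xi j)) (hu j h)
      (by linear_combination H.lin i j h) (by linear_combination H.qc i j h) (by linear_combination H.qb i j h)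
      (by linear_combination hr j h) (by linear_combination h1) (by linear_combination h2)
  · rcases eq_or_ne i j with rfl | h
    · exact h2
    unfold R2 A
    linear_combination r2_axis (a := w .a) (c := w .c) (cb := w .cb) (ci := w (.ci i)) (cj := w (.ci j))
      (bi := w (.cbi i)) (bj := w (.cbi j)) (cij := w (.cij i j h)) (cji := w (.cij j i h.symm))
      (x2 := x .x2) (x3 := x .x3) (xi := x (.xi i)) (xj := x (.xi j)) (hu j h)
      (by linear_combination H.lin i j h) (by linear_combination H.qc i j h) (by linear_combination H.qb i j h)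
      (by linear_combination hr j h) (by linear_combination h1) (by linear_combination h2)
  · unfold RR
    rcases eq_or_ne i j with rfl | hij
    · exact hr k hjk
    rcases eq_or_ne i k with rfl | hik
    · linear_combination hr j hjk.symm
    linear_combination rjk_axis (a := w .a) (c := w .c) (cb := w .cb)
      (ci := w (.ci i)) (cj := w (.ci j)) (ck := w (.ci k))
      (bi := w (.cbi i)) (bj := w (.cbi j)) (bk := w (.cbi k))
      (cij := w (.cij i j hij)) (cik := w (.cij i k hik)) (cjk := w (.cij j k hjk))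
      (cji := w (.cij j i hij.symm)) (cki := w (.cij k i hik.symm)) (ckj := w (.cij k j hjk.symm))
      (x2 := x .x2) (x3 := x .x3) (xi := x (.xi i)) (xj := x (.xi j)) (xk := x (.xi k)) (hu j hij) (hu k hik)
      (by linear_combination H.lin i j hij) (by linear_combination H.lin i k hik)
      (by linear_combination H.lin j k hjk)
      (by linear_combination H.qc i j hij) (by linear_combination H.qc i k hik) (by linear_combination H.qc j k hjk)
      (by linear_combination H.qb i j hij) (by linear_combination H.qb i k hik) (by linear_combination H.qb j k hjk)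
      (by linear_combination H.tri i j k hij hjk hik)
      (by linear_combination hr j hij) (by linear_combination hr k hik)
      (by linear_combination h1) (by linear_combination h2)

end Sol

section Series

variable {R : Type u} [CommRing R]

open PowerSeries

/-- Fixed points of contractions of tuples of power series. -/
theorem exists_fixed {ι : Type*} (F : (ι → R⟦X⟧) → ι → R⟦X⟧)
    (h : ∀ n f g, (∀ i, X ^ n ∣ f i - g i) → ∀ i, X ^ (n + 1) ∣ F f i - F g i) : ∃ f, F f = f := by
  let s : ℕ → ι → R⟦X⟧ := fun n => F^[n] 0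
  have hs : ∀ n i, X ^ n ∣ s (n + 1) i - s n i := by
    intro n
    induction n with
    | zero => exact fun i => by simp
    | succ n ih =>
      intro i
      simp only [s, Function.iterate_succ_apply'] at ih ⊢
      exact h n _ _ ih i
  have hs' : ∀ n N i, n ≤ N → X ^ n ∣ s N i - s n i := by
    intro n N i hN
    induction N, hN using Nat.le_induction with
    | base => simp
    | succ N hN ih =>
      have := dvd_add ((pow_dvd_pow X hN).trans (hs N i)) ih
      rwa [sub_add_sub_cancel] at this
  let f : ι → R⟦X⟧ := fun i => mk fun n => coeff n (s (n + 1) i)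
  have hf : ∀ N i, X ^ N ∣ f i - s N i := by
    intro N i
    rw [X_pow_dvd_iff]
    intro k hk
    have := (X_pow_dvd_iff.1 (hs' (k + 1) N i hk)) k (Nat.lt_succ_self k)
    rw [map_sub] at this ⊢
    rw [coeff_mk]
    linear_combination -this
  refine ⟨f, funext fun i => ?_⟩
  ext k
  have h1 := h k f (s k) (hf k) i
  have h2 : X ^ (k + 1) ∣ F (s k) i - f i := by
    have := (hf (k + 1) i).neg_right
    simp only [s, Function.iterate_succ_apply', neg_sub] at this
    exact this
  have h3 := X_pow_dvd_iff.1 (dvd_add h1 h2) k (Nat.lt_succ_self k)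
  rw [sub_add_sub_cancel, map_sub, sub_eq_zero] at h3
  exact h3

theorem exists_inv (r : R) : ∃ g : R⟦X⟧, (1 - C r * X) * g = 1 ∧ constantCoeff g = 1 := by
  obtain ⟨g, hg⟩ := ((isUnit_iff_constantCoeff (φ := 1 - C r * X)).2 (by simp)).exists_right_inv
  refine ⟨g, hg, ?_⟩
  simpa using congrArg constantCoeff hg

/-- The leading values of the variables on a branch: an axis or the diagonal. -/
def lead : Option (CVar m) → CVar m → R
  | none, _ => 1
  | some .x2, .x2 => 1
  | some .x3, .x3 => 1
  | some (.xi i), .xi j => if i = j then 1 else 0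
  | some _, _ => 0

variable (R) in
abbrev Lau : Type u := Localization.Away (X : R⟦X⟧)

noncomputable abbrev cst : R →+* Lau R := (algebraMap R⟦X⟧ (Lau R)).comp C

theorem lau_injective : Function.Injective (algebraMap R⟦X⟧ (Lau R)) := by
  refine IsLocalization.injective (M := Submonoid.powers (X : R⟦X⟧)) _ ?_
  refine Submonoid.powers_le.2 (mem_nonZeroDivisors_iff_right.2 fun f hf => ?_)
  ext n
  simpa [coeff_succ_mul_X] using congrArg (coeff (n + 1)) hf

theorem Rel.map {S : Type*} [CommRing S] {v : UGen m → R} (H : Rel v) (φ : R →+* S) : Rel fun g => φ (v g) := by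
  constructor
  · intro i j h; simp only [← map_add, H.lin i j h]
  · intro i j h; simp only [← map_add, ← map_mul, ← map_sub, H.qc i j h]
  · intro i j h; simp only [← map_add, ← map_mul, ← map_sub, H.qb i j h]
  · intro i j k hij hjk hik; simp only [← map_add, ← map_mul, ← map_sub, H.tri i j k hij hjk hik]

variable (R) in
/-- The inverse of the parameter. -/
noncomputable abbrev inv : Lau R := IsLocalization.Away.invSelf (X : R⟦X⟧)

theorem mul_inv_self : algebraMap R⟦X⟧ (Lau R) X * inv R = 1 := IsLocalization.Away.mul_invSelf _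

/-- The point of the curve in `R((t))` given by scaled series. -/
noncomputable def pt (f : CVar m → R⟦X⟧) (y : CVar m) : Lau R := algebraMap R⟦X⟧ (Lau R) (f y) * inv R

variable {v : UGen m → R} {f : CVar m → R⟦X⟧}

theorem r1_scale (i : Fin m) (h : f .x2 * f (.xi i) = f .x2 * f .x3 + C (v (.ci i)) * X * f (.xi i) +
    C (v (.cbi i)) * X * f .x2 - C (v .c) * X ^ 2) : R1 (fun g => cst (v g)) (pt f) i := by
  have ht := mul_inv_self (R := R)
  have h' := congrArg (algebraMap R⟦X⟧ (Lau R)) h
  simp only [map_add, map_mul, map_sub, map_pow] at h'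
  simp only [R1, pt, cst, RingHom.comp_apply]
  linear_combination inv R ^ 2 * h' + (algebraMap R⟦X⟧ (Lau R) (C (v (.ci i))) * inv R * algebraMap R⟦X⟧ (Lau R) (f (.xi i)) +
    algebraMap R⟦X⟧ (Lau R) (C (v (.cbi i))) * inv R * algebraMap R⟦X⟧ (Lau R) (f .x2) -
    algebraMap R⟦X⟧ (Lau R) (C (v .c)) * (algebraMap R⟦X⟧ (Lau R) X * inv R + 1)) * ht

theorem r2_scale (i : Fin m) (h : f .x3 * f (.xi i) = f .x2 * f .x3 +
    C (A v i) * X * (f (.xi i) - C (v (.cbi i)) * X) + (C (v .cb) - C (v .c)) * X ^ 2) :
    R2 (fun g => cst (v g)) (pt f) i := by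
  have ht := mul_inv_self (R := R)
  have h' := congrArg (algebraMap R⟦X⟧ (Lau R)) h
  simp only [A, map_add, map_mul, map_sub, map_pow] at h'
  simp only [R2, A, pt, cst, RingHom.comp_apply]
  linear_combination inv R ^ 2 * h' + ((algebraMap R⟦X⟧ (Lau R) (C (v .a)) + algebraMap R⟦X⟧ (Lau R) (C (v (.ci i))) +
      algebraMap R⟦X⟧ (Lau R) (C (v (.cbi i)))) * inv R * algebraMap R⟦X⟧ (Lau R) (f (.xi i)) -
    ((algebraMap R⟦X⟧ (Lau R) (C (v .a)) + algebraMap R⟦X⟧ (Lau R) (C (v (.ci i))) +
      algebraMap R⟦X⟧ (Lau R) (C (v (.cbi i)))) * algebraMap R⟦X⟧ (Lau R) (C (v (.cbi i))) -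
      algebraMap R⟦X⟧ (Lau R) (C (v .cb)) + algebraMap R⟦X⟧ (Lau R) (C (v .c))) *
      (algebraMap R⟦X⟧ (Lau R) X * inv R + 1)) * ht

theorem rr_scale (i j : Fin m) (hij : i ≠ j) (h : f (.xi i) * f (.xi j) = f .x2 * f .x3 +
    C (v (.cij i j hij)) * X * f (.xi j) + C (v (.cij j i hij.symm)) * X * f (.xi i) - C (v .c) * X ^ 2) :
    RR (fun g => cst (v g)) (pt f) i j hij := by
  have ht := mul_inv_self (R := R)
  have h' := congrArg (algebraMap R⟦X⟧ (Lau R)) h
  simp only [map_add, map_mul, map_sub, map_pow] at h'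
  simp only [RR, pt, cst, RingHom.comp_apply]
  linear_combination inv R ^ 2 * h' +
    (algebraMap R⟦X⟧ (Lau R) (C (v (.cij i j hij))) * inv R * algebraMap R⟦X⟧ (Lau R) (f (.xi j)) +
    algebraMap R⟦X⟧ (Lau R) (C (v (.cij j i hij.symm))) * inv R * algebraMap R⟦X⟧ (Lau R) (f (.xi i)) -
    algebraMap R⟦X⟧ (Lau R) (C (v .c)) * (algebraMap R⟦X⟧ (Lau R) X * inv R + 1)) * ht

theorem cub_scale (d : R) (h : f .x2 * f .x3 ^ 2 - f .x2 ^ 2 * f .x3 = C (v .a) * X * f .x2 * f .x3 +
    (C (v .cb) - C (v .c)) * X ^ 2 * f .x2 + C (v .c) * X ^ 2 * f .x3 + C d * X ^ 3) :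
    Cub (fun g => cst (v g)) (pt f) (cst d) := by
  have ht := mul_inv_self (R := R)
  have h' := congrArg (algebraMap R⟦X⟧ (Lau R)) h
  simp only [map_add, map_mul, map_sub, map_pow] at h'
  simp only [Cub, pt, cst, RingHom.comp_apply]
  linear_combination inv R ^ 3 * h' +
    (algebraMap R⟦X⟧ (Lau R) (C (v .a)) * inv R ^ 2 * algebraMap R⟦X⟧ (Lau R) (f .x2) * algebraMap R⟦X⟧ (Lau R) (f .x3) +
    ((algebraMap R⟦X⟧ (Lau R) (C (v .cb)) - algebraMap R⟦X⟧ (Lau R) (C (v .c))) * inv R * algebraMap R⟦X⟧ (Lau R) (f .x2) +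
      algebraMap R⟦X⟧ (Lau R) (C (v .c)) * inv R * algebraMap R⟦X⟧ (Lau R) (f .x3)) *
      (algebraMap R⟦X⟧ (Lau R) X * inv R + 1) +
    algebraMap R⟦X⟧ (Lau R) (C d) *
      ((algebraMap R⟦X⟧ (Lau R) X * inv R) ^ 2 + algebraMap R⟦X⟧ (Lau R) X * inv R + 1)) * ht

theorem isUnit_pt_sub {y : CVar m} (hy : constantCoeff (f y) = 1) (r : R) : IsUnit (pt f y - cst r) := by
  have h : pt f y - cst r = algebraMap R⟦X⟧ (Lau R) (f y - C r * X) * inv R := by
    simp only [pt, cst, RingHom.comp_apply, map_sub, map_mul]
    linear_combination algebraMap R⟦X⟧ (Lau R) (C r) * mul_inv_self (R := R)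
  rw [h]
  refine IsUnit.mul (IsUnit.map _ (isUnit_iff_constantCoeff.2 (by simp [hy]))) ?_
  exact IsUnit.of_mul_eq_one _ (by rw [mul_comm]; exact mul_inv_self)

/-- The branches at infinity. -/
theorem exists_branch (H : Rel v) (i₀ : Fin m) (β : Option (CVar m)) :
    ∃ f : CVar m → R⟦X⟧, (∀ y, constantCoeff (f y) = lead β y) ∧ Sol (fun g => cst (v g)) (pt f) := by
  have H' := H.map (cst (R := R))
  have hA : ∀ i, A (fun g => cst (v g)) i = cst (A v i) := fun i => by simp only [A, map_add]
  have hd : ∀ i, dd (fun g => cst (v g)) i = cst (dd v i) := fun i => by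
    simp only [dd, A, map_add, map_sub, map_mul, map_neg]
  let a : R⟦X⟧ := C (v .a)
  let c : R⟦X⟧ := C (v .c)
  let b : R⟦X⟧ := C (v .cb) - C (v .c)
  let d : R⟦X⟧ := C (dd v i₀)
  choose g hg hg0 using fun r : R => exists_inv r
  rcases β with - | y
  · -- the diagonal
    obtain ⟨w, hw⟩ := exists_fixed (ι := Unit) (R := R)
      (fun w _ => a + X * (-(w ()) ^ 2 + a * w () + b + c * (1 + X * w ()) + d * X))
      (fun n f f' h _ => by
        rw [pow_succ', add_sub_add_left_eq_sub, ← mul_sub]
        refine mul_dvd_mul_left _ ?_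
        rw [show -(f ()) ^ 2 + a * f () + b + c * (1 + X * f ()) + d * X -
          (-(f' ()) ^ 2 + a * f' () + b + c * (1 + X * f' ()) + d * X) =
          (a + c * X - f () - f' ()) * (f () - f' ()) by ring]
        exact (h ()).mul_left _)
    have hw' := (congrFun hw ()).symm
    let f : CVar m → R⟦X⟧ := fun y => match y with
      | .x2 => 1
      | .x3 => 1 + X * w ()
      | .xi i => ((1 + X * w ()) + C (v (.cbi i)) * X - C (v .c) * X ^ 2) * g (v (.ci i))
    refine ⟨f, ?_, sol_of_r1 H' i₀ (fun i => isUnit_pt_sub (by simp [f]) _) (fun i => r1_scale i ?_) ?_⟩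
    · intro y
      cases y <;> simp [f, lead, hg0]
    · simp only [f]
      linear_combination ((1 + X * w ()) + C (v (.cbi i)) * X - C (v .c) * X ^ 2) * hg (v (.ci i))
    · rw [hd]
      refine cub_scale _ ?_
      simp only [f, a, b, c, d] at hw' ⊢
      linear_combination X * hw'
  rcases y with - | - | i
  · -- the axis of `x₂`
    obtain ⟨w, hw⟩ := exists_fixed (ι := Unit) (R := R)
      (fun w _ => X * ((w ()) ^ 2 - a * w () - b - c * X * w () - d * X))
      (fun n f f' h _ => by
        rw [pow_succ', ← mul_sub]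
        refine mul_dvd_mul_left _ ?_
        rw [show (f ()) ^ 2 - a * f () - b - c * X * f () - d * X -
          ((f' ()) ^ 2 - a * f' () - b - c * X * f' () - d * X) =
          (f () + f' () - a - c * X) * (f () - f' ()) by ring]
        exact (h ()).mul_left _)
    have hw' := (congrFun hw ()).symm
    let f : CVar m → R⟦X⟧ := fun y => match y with
      | .x2 => 1
      | .x3 => X * w ()
      | .xi i => (X * w () + C (v (.cbi i)) * X - C (v .c) * X ^ 2) * g (v (.ci i))
    refine ⟨f, ?_, sol_of_r1 H' i₀ (fun i => isUnit_pt_sub (by simp [f]) _) (fun i => r1_scale i ?_) ?_⟩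
    · intro y
      cases y <;> simp [f, lead]
    · simp only [f]
      linear_combination (X * w () + C (v (.cbi i)) * X - C (v .c) * X ^ 2) * hg (v (.ci i))
    · rw [hd]
      refine cub_scale _ ?_
      simp only [f, a, b, c, d] at hw' ⊢
      linear_combination -X * hw'
  · -- the axis of `x₃`
    obtain ⟨w, hw⟩ := exists_fixed (ι := Unit) (R := R)
      (fun w _ => X * ((w ()) ^ 2 + a * w () + b * X * w () + c + d * X))
      (fun n f f' h _ => by
        rw [pow_succ', ← mul_sub]
        refine mul_dvd_mul_left _ ?_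
        rw [show (f ()) ^ 2 + a * f () + b * X * f () + c + d * X -
          ((f' ()) ^ 2 + a * f' () + b * X * f' () + c + d * X) =
          (f () + f' () + a + b * X) * (f () - f' ()) by ring]
        exact (h ()).mul_left _)
    have hw' := (congrFun hw ()).symm
    let f : CVar m → R⟦X⟧ := fun y => match y with
      | .x2 => X * w ()
      | .x3 => 1
      | .xi i => (X * w () - C (A v i) * C (v (.cbi i)) * X ^ 2 + (C (v .cb) - C (v .c)) * X ^ 2) * g (A v i)
    refine ⟨f, ?_, sol_of_r2 H' i₀ (fun i => hA i ▸ isUnit_pt_sub (by simp [f]) _) (fun i => r2_scale i ?_) ?_⟩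
    · intro y
      cases y <;> simp [f, lead]
    · simp only [f]
      linear_combination (X * w () - C (A v i) * C (v (.cbi i)) * X ^ 2 + (C (v .cb) - C (v .c)) * X ^ 2) * hg (A v i)
    · rw [hd]
      refine cub_scale _ ?_
      simp only [f, a, b, c, d] at hw' ⊢
      linear_combination X * hw'
  · -- the axis of `xᵢ`
    obtain ⟨w, hw⟩ := exists_fixed (ι := Bool) (R := R)
      (fun w z => if z then C (v (.ci i)) + X * (w true * w false + C (v (.cbi i)) * w true - C (v .c))
        else C (A v i) + X * (w true * w false - C (A v i) * C (v (.cbi i)) + b))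
      (fun n f f' h z => by
        have key : ∀ p : R⟦X⟧, X ^ n ∣ (f true * f false + p * f true) - (f' true * f' false + p * f' true) :=
          fun p => by
            rw [show (f true * f false + p * f true) - (f' true * f' false + p * f' true) =
              (f false + p) * (f true - f' true) + f' true * (f false - f' false) by ring]
            exact dvd_add ((h true).mul_left _) ((h false).mul_left _)
        cases z
        · simp only [Bool.false_eq_true, if_false, add_sub_add_left_eq_sub, ← mul_sub, pow_succ']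
          refine mul_dvd_mul_left _ ?_
          have := key 0
          simp only [zero_mul, add_zero] at this
          simpa using this
        · simp only [if_true, add_sub_add_left_eq_sub, ← mul_sub, pow_succ']
          refine mul_dvd_mul_left _ ?_
          simpa [add_sub_add_right_eq_sub] using key (C (v (.cbi i))))
    have hp := congrFun hw true
    have hq := congrFun hw false
    simp only [if_true, Bool.false_eq_true, if_false] at hp hq
    let f : CVar m → R⟦X⟧ := fun y => match y with
      | .x2 => X * w true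
      | .x3 => X * w false
      | .xi j => if h : i = j then 1 else
          (X ^ 2 * w true * w false + C (v (.cij j i (Ne.symm h))) * X - C (v .c) * X ^ 2) * g (v (.cij i j h))
    refine ⟨f, ?_, sol_of_axis H' i (fun j h => isUnit_pt_sub (by simp [f]) _) (r1_scale i ?_) (r2_scale i ?_)
      (fun j h => rr_scale i j h ?_)⟩
    · intro y
      cases y with
      | x2 => simp [f, lead]
      | x3 => simp [f, lead]
      | xi j =>
        rcases eq_or_ne i j with rfl | h
        · simp [f, lead]
        · simp [f, lead, h]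
    · simp only [f, dif_pos rfl, b] at hp ⊢
      linear_combination -X * hp
    · simp only [f, dif_pos rfl, b] at hq ⊢
      linear_combination -X * hq
    · simp only [f, dif_pos rfl, dif_neg h]
      linear_combination (X ^ 2 * w true * w false + C (v (.cij j i h.symm)) * X - C (v .c) * X ^ 2) * hg (v (.cij i j h))

end Series

end Groth.Agent.H23Un
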