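import Groth.Agent.H23Un.Succ

/-!
# The graded basis of the coordinate ring of U_n over ℤ
-/

set_option autoImplicit false

open W4c5m1nsnscurves MvPolynomial

namespace Groth.Agent.H23Un

/-- A weighted index type with given counting series. -/
def HasSeries {ι : Type*} (w : ι → ℕ) (P : PowerSeries ℤ) : Prop :=
  ∀ d, ∃ s : Finset ι, (∀ i, i ∈ s ↔ w i = d) ∧ (s.card : ℤ) = PowerSeries.coeff d P

theorem HasSeries.prod {ι κ : Type*} {w : ι → ℕ} {v : κ → ℕ} {P Q : PowerSeries ℤ} (hw : HasSeries w P)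
    (hv : HasSeries v Q) : HasSeries (fun x : ι × κ => w x.1 + v x.2) (P * Q) := by
  classical
  intro d
  choose s hs hsc using hw
  choose t ht htc using hv
  refine ⟨(Finset.HasAntidiagonal.antidiagonal d).biUnion fun p => s p.1 ×ˢ t p.2, fun x => ?_, ?_⟩
  · simp only [Finset.mem_biUnion, Finset.mem_product, hs, ht, Finset.HasAntidiagonal.mem_antidiagonal]
    constructor
    · rintro ⟨p, hp, h1, h2⟩
      omega
    · intro h
      exact ⟨(w x.1, v x.2), h, rfl, rfl⟩
  · rw [Finset.card_biUnion, PowerSeries.coeff_mul]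
    · push_cast
      simp [Finset.card_product, hsc, htc]
    · intro p hp q hq hpq
      rw [Function.onFun, Finset.disjoint_left]
      intro x hx hx'
      simp only [Finset.mem_product, hs, ht] at hx hx'
      exact hpq (Prod.ext (hx.1.symm.trans hx'.1) (hx.2.symm.trans hx'.2))

theorem HasSeries.equiv {ι κ : Type*} {w : ι → ℕ} {P : PowerSeries ℤ} (hw : HasSeries w P) (e : κ ≃ ι) :
    HasSeries (fun k => w (e k)) P := by
  intro d
  obtain ⟨s, hs, hc⟩ := hw d
  exact ⟨s.map e.symm.toEmbedding, fun k => by simp [Finset.mem_map_equiv, hs], by simpa using hc⟩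

/-- The geometric series. -/
noncomputable abbrev G1 : PowerSeries ℤ := PowerSeries.mk fun _ => 1

/-- The geometric series in the square of the variable. -/
noncomputable abbrev G2 : PowerSeries ℤ := PowerSeries.mk fun d => if Even d then 1 else 0

theorem hasSeries_id : HasSeries (fun n : ℕ => n) G1 := fun d => ⟨{d}, by simp, by simp⟩

theorem hasSeries_double : HasSeries (fun n : ℕ => 2 * n) G2 := by
  intro d
  rcases Nat.even_or_odd d with h | h
  · refine ⟨{d / 2}, fun n => ?_, by simp [h]⟩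
    obtain ⟨k, rfl⟩ := h
    simp only [Finset.mem_singleton]
    omega
  · refine ⟨∅, fun n => ?_, by simp [Nat.not_even_iff_odd.2 h]⟩
    obtain ⟨k, rfl⟩ := h
    simp only [Finset.notMem_empty, false_iff]
    omega

theorem G2_mul : G2 * (1 + PowerSeries.X) = G1 := by
  ext d
  rcases d with - | d
  · simp
  · rw [mul_add, mul_one, map_add, PowerSeries.coeff_succ_mul_X]
    simp only [PowerSeries.coeff_mk]
    rcases Nat.even_or_odd d with h | h
    · simp [h, Nat.even_add_one]
    · simp [Nat.not_even_iff_odd.2 h, Nat.even_add_one]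

theorem coeff_idx (r : ℤ) (d : ℕ) :
    PowerSeries.coeff d (G1 * (1 + PowerSeries.C r * PowerSeries.X + PowerSeries.X ^ 2)) =
      1 + (if 1 ≤ d then r else 0) + (if 2 ≤ d then 1 else 0) := by
  rw [mul_add, mul_add, map_add, map_add, mul_one, PowerSeries.coeff_mul_X_pow']
  rcases d with - | d
  · simp
  · rw [← mul_assoc, PowerSeries.coeff_succ_mul_X, PowerSeries.coeff_mul_C]
    simp

theorem hasSeries_idx (m : ℕ) :
    HasSeries (deg (m := m))
      (G1 * (1 + PowerSeries.C ((m + 1 : ℕ) : ℤ) * PowerSeries.X + PowerSeries.X ^ 2)) := by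
  classical
  let e : Option (Option (Fin m)) ≃ CVar m :=
    { toFun := fun x => match x with | none => .x2 | some none => .x3 | some (some i) => .xi i
      invFun := fun y => match y with | .x2 => none | .x3 => some none | .xi i => some (some i)
      left_inv := fun x => by rcases x with - | - | i <;> rfl
      right_inv := fun y => by cases y <;> rfl }
  haveI : Fintype (CVar m) := Fintype.ofEquiv _ e
  have hcard : Fintype.card (CVar m) = m + 2 := by
    rw [← Fintype.card_congr e]
    simp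
  intro d
  rcases d with - | - | d
  · refine ⟨{none}, fun b => ?_, by simp [coeff_idx]⟩
    rcases b with - | k | ⟨y, k⟩ <;> simp [deg]
  · refine ⟨Finset.univ.image fun y => some (Sum.inr (y, 0)), fun b => ?_, ?_⟩
    · rcases b with - | k | ⟨y, k⟩ <;> simp [deg]
      exact eq_comm
    · rw [Finset.card_image_of_injective _ (fun y y' h => by simpa using h), Finset.card_univ, hcard,
        coeff_idx]
      simp
      ring
  · refine ⟨insert (some (Sum.inl d)) (Finset.univ.image fun y => some (Sum.inr (y, d + 1))), fun b => ?_, ?_⟩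
    · rcases b with - | k | ⟨y, k⟩ <;> simp [deg]
      exact eq_comm
    · rw [Finset.card_insert_of_notMem (by simp),
        Finset.card_image_of_injective _ (fun y y' h => by simpa using h), Finset.card_univ, hcard,
        coeff_idx]
      simp
      ring

theorem hasSeries_one : ∃ w : (UGen 1 →₀ ℕ) → ℕ, w = Finsupp.weight (uwt (m := 1)) ∧
    HasSeries w ((G1 * G1 * G1) * (G2 * G2)) := by
  classical
  let e : (UGen 1 →₀ ℕ) ≃ ((ℕ × ℕ) × ℕ) × (ℕ × ℕ) :=
    haveI : Fintype (UGen 1) :=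
      ⟨{.a, .c, .cb, .ci 0, .cbi 0}, fun g => by
        cases g with
        | cij i j h => exact absurd (Subsingleton.elim i j) h
        | ci i => fin_cases i; simp
        | cbi i => fin_cases i; simp
        | _ => simp⟩
    { toFun := fun f => (((f .a, f (.ci 0)), f (.cbi 0)), (f .c, f .cb))
      invFun := fun t => Finsupp.equivFunOnFinite.symm fun g => match g with
        | .a => t.1.1.1
        | .ci _ => t.1.1.2
        | .cbi _ => t.1.2
        | .c => t.2.1
        | .cb => t.2.2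
        | .cij _ _ _ => 0
      left_inv := fun f => by
        ext g
        cases g with
        | cij i j h => exact absurd (Subsingleton.elim i j) h
        | ci i => fin_cases i; simp
        | cbi i => fin_cases i; simp
        | _ => simp
      right_inv := fun t => by simp }
  refine ⟨_, rfl, ?_⟩
  have h := (((hasSeries_id.prod hasSeries_id).prod hasSeries_id).prod (hasSeries_double.prod hasSeries_double)).equiv e
  convert h using 1
  funext f
  have hf : f = Finsupp.single .a (f .a) + Finsupp.single (.ci 0) (f (.ci 0)) + Finsupp.single (.cbi 0) (f (.cbi 0)) +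
      Finsupp.single .c (f .c) + Finsupp.single .cb (f .cb) := by
    ext g
    cases g with
    | cij i j h => exact absurd (Subsingleton.elim i j) h
    | ci i => fin_cases i; simp
    | cbi i => fin_cases i; simp
    | _ => simp
  conv_lhs => rw [hf]
  simp only [map_add, Finsupp.weight_single, uwt, smul_eq_mul]
  show _ = (e f).1.1.1 + (e f).1.1.2 + (e f).1.2 + (2 * (e f).2.1 + 2 * (e f).2.2)
  simp only [e, Equiv.coe_fn_mk]
  ring

/-- A graded basis with prescribed counting series. -/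
def HasGradedBasis (m : ℕ) (P : PowerSeries ℤ) : Prop :=
  ∃ (ι : Type) (b : Module.Basis ι ℤ (URing ℤ m)) (w : ι → ℕ),
    (∀ i, b i ∈ upiece ℤ m (w i)) ∧ HasSeries w P

theorem mem_upiece {m d : ℕ} {p : MvPolynomial (UGen m) ℤ} (hp : IsWeightedHomogeneous (uwt (m := m)) p d) :
    Ideal.Quotient.mk (Ideal.span (URel ℤ m)) p ∈ upiece ℤ m d :=
  GrQuot.mk_mem_quot _ _ hp

instance upieceGraded (m : ℕ) : SetLike.GradedMonoid (upiece ℤ m) :=
  haveI : SetLike.GradedMonoid (weightedHomogeneousSubmodule ℤ (uwt (m := m))) :=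
    { one_mem := isWeightedHomogeneous_one _ _
      mul_mem := fun _ _ _ _ h₁ h₂ => h₁.mul h₂ }
  GrQuot.gradedMonoid (weightedHomogeneousSubmodule ℤ (uwt (m := m))) (Ideal.span (URel ℤ m))

theorem base_case : HasGradedBasis 1 ((G1 * G1 * G1) * (G2 * G2)) := by
  classical
  obtain ⟨w, hw, hs⟩ := hasSeries_one
  have hbot : Ideal.span (URel ℤ 1) = ⊥ := by
    rw [Ideal.span_eq_bot]
    rintro p (((⟨⟨⟨i, j⟩, h⟩, rfl⟩ | ⟨⟨⟨i, j⟩, h⟩, rfl⟩) | ⟨⟨⟨i, j⟩, h⟩, rfl⟩) | ⟨⟨⟨i, j, k⟩, h, -⟩, rfl⟩)
    all_goals exact absurd (Subsingleton.elim i j) h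
  let q : MvPolynomial (UGen 1) ℤ →ₐ[ℤ] URing ℤ 1 := Ideal.Quotient.mkₐ ℤ _
  have hq : Function.Bijective q :=
    ⟨(injective_iff_map_eq_zero q).2 fun p hp => by
      have := Ideal.Quotient.eq_zero_iff_mem.1 hp
      rwa [hbot, Ideal.mem_bot] at this, Ideal.Quotient.mk_surjective⟩
  refine ⟨_, (MvPolynomial.basisMonomials (UGen 1) ℤ).map (AlgEquiv.ofBijective q hq).toLinearEquiv, w, fun e => ?_, hs⟩
  rw [Module.Basis.map_apply, MvPolynomial.coe_basisMonomials]
  exact mem_upiece (isWeightedHomogeneous_monomial _ _ _ (hw ▸ rfl))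

theorem uincl_mem {m d : ℕ} {x : URing ℤ m} (hx : x ∈ upiece ℤ m d) : uincl ℤ m x ∈ upiece ℤ (m + 1) d := by
  classical
  obtain ⟨p, hp, rfl⟩ := (GrQuot.mem_quot_iff _ _ _ _).1 hx
  rw [mem_weightedHomogeneousSubmodule] at hp
  show Ideal.Quotient.mk _ (rename UGen.castSucc p) ∈ _
  refine mem_upiece ?_
  have hw : ∀ g : UGen m, uwt (UGen.castSucc g) = uwt g := fun g => by cases g <;> rfl
  rw [p.as_sum, map_sum]
  refine IsWeightedHomogeneous.sum _ _ _ fun e he => ?_
  rw [rename_monomial]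
  refine isWeightedHomogeneous_monomial _ _ _ ?_
  have h := hp (MvPolynomial.mem_support_iff.1 he)
  rw [← h, Finsupp.weight_apply, Finsupp.weight_apply, Finsupp.sum_mapDomain_index (by simp) (fun b m₁ m₂ => add_smul m₁ m₂ (uwt b))]
  exact Finsupp.sum_congr fun g _ => by rw [hw]

theorem succ_step {m : ℕ} (hm : 1 ≤ m) {P : PowerSeries ℤ} (h : HasGradedBasis m P) :
    HasGradedBasis (m + 1) (P * (G1 * (1 + PowerSeries.C ((m + 1 : ℕ) : ℤ) * PowerSeries.X + PowerSeries.X ^ 2))) := by
  obtain ⟨ι, b, w, hb, hP⟩ := h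
  let CA := CurveAlg (URing ℤ m) m (ugen ℤ m)
  let c : Module.Basis (Idx m) (URing ℤ m) CA :=
    Module.Basis.mk (linearIndependent_cmon (rel_ugen ℤ m) ⟨0, hm⟩)
      (span_eq_top (v := ugen ℤ m) ⟨0, hm⟩).ge
  let e : CA →ₗ[ℤ] URing ℤ (m + 1) :=
    { toFun := succEquiv ℤ m
      map_add' := map_add _
      map_smul' := fun n x => by
        rw [RingHom.id_apply, Int.cast_smul_eq_zsmul ℤ n x |>.symm, Int.cast_id]
        exact map_intCast_smul (succEquiv ℤ m) ℤ ℤ n x }
  let e' : CA ≃ₗ[ℤ] URing ℤ (m + 1) := LinearEquiv.ofBijective e (succEquiv ℤ m).bijective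
  refine ⟨ι × Idx m, (b.smulTower c).map e', fun x => w x.1 + deg x.2, fun x => ?_, hP.prod (hasSeries_idx m)⟩
  rw [Module.Basis.map_apply, Module.Basis.smulTower_apply]
  show succEquiv ℤ m (b x.1 • c x.2) ∈ _
  rw [show c x.2 = cmon (URing ℤ m) m (ugen ℤ m) x.2 from Module.Basis.mk_apply _ _ _]
  have hsm : ∀ (r : URing ℤ m) (z : CA), succEquiv ℤ m (r • z) = uincl ℤ m r * succEquiv ℤ m z := fun r z => by
    obtain ⟨p, rfl⟩ := Ideal.Quotient.mk_surjective z
    rw [← fwd_algebraMap, show r • (Ideal.Quotient.mk (Ideal.span (CRel (URing ℤ m) m (ugen ℤ m))) p) =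
      Ideal.Quotient.mk _ (C r) * Ideal.Quotient.mk _ p by rw [← map_mul, ← MvPolynomial.smul_eq_C_mul]; rfl]
    rw [map_mul, mk_C]
    rfl
  rw [hsm]
  refine SetLike.mul_mem_graded (A := upiece ℤ (m + 1)) (uincl_mem (hb x.1)) ?_
  have hpr : ∀ y, succEquiv ℤ m (pr (ugen ℤ m) y) ∈ upiece ℤ (m + 1) 1 := fun y => by
    show fwd ℤ m (pr (ugen ℤ m) y) ∈ upiece ℤ (m + 1) 1
    rw [fwd_pr]
    cases y with
    | x3 =>
      exact add_mem (add_mem (mem_upiece (isWeightedHomogeneous_X _ _ _))
        (mem_upiece (isWeightedHomogeneous_X _ _ _))) (mem_upiece (isWeightedHomogeneous_X _ _ _))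
    | _ => exact mem_upiece (isWeightedHomogeneous_X _ _ _)
  rcases x.2 with - | k | ⟨y, k⟩
  · rw [cmon_none, map_one]
    exact SetLike.one_mem_graded _
  · rw [cmon_inl, map_mul, map_pow]
    have := SetLike.mul_mem_graded (SetLike.pow_mem_graded (k + 1) (hpr .x2)) (hpr .x3)
    simpa [deg, smul_eq_mul] using this
  · rw [cmon_inr, map_pow]
    simpa [deg, smul_eq_mul] using SetLike.pow_mem_graded (k + 1) (hpr y)

theorem uhilb_eq (m : ℕ) : uhilb m = G1 ^ (m + 4) *
    (Finset.Icc 3 m).prod fun k => (1 + PowerSeries.C (k : ℤ) * PowerSeries.X + PowerSeries.X ^ 2) := rfl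

theorem hasGradedBasis (m : ℕ) (hm : 2 ≤ m) : HasGradedBasis m (uhilb m) := by
  induction m, hm using Nat.le_induction with
  | base =>
    have h := succ_step le_rfl base_case
    rw [uhilb_eq]
    convert h using 1
    simp only [show Finset.Icc 3 2 = (∅ : Finset ℕ) from rfl, Finset.prod_empty, mul_one]
    rw [← G2_mul]
    simp only [show ((1 + 1 : ℕ) : ℤ) = 2 from rfl, map_ofNat]
    ring
  | succ m hm ih =>
    have h := succ_step (by omega) ih
    convert h using 1
    rw [uhilb_eq, uhilb_eq, Finset.prod_Icc_succ_top (by omega : 3 ≤ m + 1), pow_succ']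
    ring

attribute [local instance] MvPolynomial.weightedGradedAlgebra in
theorem isHomog_span (m : ℕ) :
    GrQuot.IsHomog (weightedHomogeneousSubmodule ℤ (uwt (m := m))) (Ideal.span (URel ℤ m)) := by
  rw [GrQuot.isHomog_iff]
  refine Ideal.homogeneous_span _ _ ?_
  have hX : ∀ g : UGen m, IsWeightedHomogeneous (uwt (m := m)) (X g : MvPolynomial (UGen m) ℤ) (uwt g) :=
    fun g => isWeightedHomogeneous_X _ _ _
  rintro p (((⟨⟨⟨i, j⟩, h⟩, rfl⟩ | ⟨⟨⟨i, j⟩, h⟩, rfl⟩) | ⟨⟨⟨i, j⟩, h⟩, rfl⟩) | ⟨⟨⟨i, j, k⟩, hij, hjk, hik⟩, rfl⟩)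
  · refine ⟨1, Submodule.sub_mem _ (Submodule.add_mem _ ?_ ?_)
      (Submodule.add_mem _ (Submodule.add_mem _ (Submodule.add_mem _ (Submodule.add_mem _ ?_ ?_) ?_) ?_) ?_)⟩
    all_goals exact hX _
  · refine ⟨2, Submodule.sub_mem _ (Submodule.sub_mem _ (Submodule.add_mem _ ?_ ?_) ?_) (hX UGen.c)⟩
    all_goals exact (hX _).mul (hX _)
  · refine ⟨2, Submodule.sub_mem _ (Submodule.sub_mem _ (Submodule.add_mem _ ?_ ?_) ?_) (hX UGen.cb)⟩
    all_goals exact (hX _).mul (hX _)
  · refine ⟨2, Submodule.sub_mem _ (Submodule.add_mem _ (Submodule.sub_mem _ (Submodule.add_mem _ ?_ ?_) ?_) ?_)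
      (hX UGen.c)⟩
    · exact (hX (.cij i j hij)).mul (hX (.cij j k hjk))
    · exact (hX (.cij j i hij.symm)).mul (hX (.cij i k hik))
    · exact (hX (.cij i k hik)).mul (hX (.cij j k hjk))
    · exact (((hX .a).add (hX (.ci k))).add (hX (.cbi k))).mul (hX (.ci k))

theorem uring_graded (m : ℕ) (hm : 2 ≤ m) :
    Module.Free ℤ (URing ℤ m) ∧ DirectSum.IsInternal (upiece ℤ m) ∧
      ∀ d : ℕ, (Module.finrank ℤ (upiece ℤ m d) : ℤ) = PowerSeries.coeff d (uhilb m) := by
  classical
  obtain ⟨ι, b, w, hb, hs⟩ := hasGradedBasis m hm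
  letI := weightedGradedAlgebra ℤ (uwt (m := m))
  haveI := isHomog_span m
  letI G : GradedAlgebra (GrQuot.quot (weightedHomogeneousSubmodule ℤ (uwt (m := m))) (Ideal.span (URel ℤ m))) :=
    GrQuot.gradedAlgebra _ _
  letI D : DirectSum.Decomposition (upiece ℤ m) := G.toDecomposition
  have hint : DirectSum.IsInternal (upiece ℤ m) := DirectSum.Decomposition.isInternal (upiece ℤ m)
  refine ⟨Module.Free.of_basis b, hint, fun d => ?_⟩
  obtain ⟨s, hsm, hsc⟩ := hs d
  have hpiece : upiece ℤ m d = Submodule.span ℤ (Set.range fun i : s => b i) := by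
    refine le_antisymm (fun x hx => ?_) (Submodule.span_le.2 ?_)
    · have hxd : (DirectSum.decompose (upiece ℤ m) x d : URing ℤ m) = x :=
        DirectSum.decompose_of_mem_same _ hx
      rw [← hxd, ← b.linearCombination_repr x, Finsupp.linearCombination_apply, Finsupp.sum,
        DirectSum.decompose_sum, DFinsupp.finset_sum_apply, AddSubmonoidClass.coe_finset_sum]
      refine Submodule.sum_mem _ fun i _ => ?_
      have hi : b.repr x i • b i ∈ upiece ℤ m (w i) := Submodule.smul_mem _ _ (hb i)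
      rcases eq_or_ne (w i) d with h | h
      · rw [h] at hi
        rw [DirectSum.decompose_of_mem_same _ hi]
        exact Submodule.smul_mem _ _ (Submodule.subset_span ⟨⟨i, (hsm i).2 h⟩, rfl⟩)
      · rw [DirectSum.decompose_of_mem_ne _ hi h]
        exact Submodule.zero_mem _
    · rintro _ ⟨⟨i, hi⟩, rfl⟩
      exact (hsm i).1 hi ▸ hb i
  rw [hpiece]
  refine Eq.trans (congrArg Nat.cast (finrank_span_eq_card (b.linearIndependent.comp _ Subtype.val_injective))) ?_
  rw [Fintype.card_coe, hsc]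

end Groth.Agent.H23Un
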