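import Groth.Agent.H23Un.Basis
import Groth.Prelude.Def_W4c5m1nsnscurvesI

/-!
# The curve over U_n is U_{n+1}
-/

set_option autoImplicit false
universe u

open W4c5m1nsnscurves MvPolynomial

namespace Groth.Agent.H23Un

variable (R : Type u) [CommRing R] (m : ℕ)

/-- The universal point satisfies the relations. -/
theorem rel_ugen : Rel (ugen R m) := by
  refine rel_iff.2 fun p hp => ?_
  rcases hp with ((⟨q, rfl⟩ | ⟨q, rfl⟩) | ⟨q, rfl⟩) | ⟨q, rfl⟩
  all_goals
    simp only [map_add, map_sub, map_mul, MvPolynomial.eval_X, ugen]
    simp only [← map_add, ← map_sub, ← map_mul]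
    refine Ideal.Quotient.eq_zero_iff_mem.2 (Ideal.subset_span ?_)
  · exact Or.inl (Or.inl (Or.inl ⟨q, rfl⟩))
  · exact Or.inl (Or.inl (Or.inr ⟨q, rfl⟩))
  · exact Or.inl (Or.inr ⟨q, rfl⟩)
  · exact Or.inr ⟨q, rfl⟩

theorem uincl_ugen (g : UGen m) : uincl R m (ugen R m g) = ugen R (m + 1) (UGen.castSucc g) := by
  show Ideal.Quotient.mk _ (rename UGen.castSucc (X g)) = _
  rw [rename_X]
  rfl

/-- The values in `U_{n+1}` of the variables of the curve. -/
noncomputable def fwdVal : CVar m → URing R (m + 1)
  | .x2 => ugen R (m + 1) (.ci (Fin.last m))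
  | .x3 => ugen R (m + 1) .a + ugen R (m + 1) (.ci (Fin.last m)) + ugen R (m + 1) (.cbi (Fin.last m))
  | .xi i => ugen R (m + 1) (.cij i.castSucc (Fin.last m) (Fin.castSucc_lt_last i).ne)

theorem fwd_sol :
    Sol (fun g => (uincl R m).toRingHom (ugen R m g)) (fwdVal R m) := by
  have H := rel_ugen R (m + 1)
  constructor
  · intro i
    have hl := H.lin i.castSucc (Fin.last m) (Fin.castSucc_lt_last i).ne
    have hq := H.qc i.castSucc (Fin.last m) (Fin.castSucc_lt_last i).ne
    simp only [R1, AlgHom.toRingHom_eq_coe, RingHom.coe_coe, uincl_ugen, UGen.castSucc, fwdVal]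
    linear_combination ugen R (m + 1) (.ci (Fin.last m)) * hl - hq
  · intro i
    have hl := H.lin i.castSucc (Fin.last m) (Fin.castSucc_lt_last i).ne
    have hq := H.qc i.castSucc (Fin.last m) (Fin.castSucc_lt_last i).ne
    have hb := H.qb i.castSucc (Fin.last m) (Fin.castSucc_lt_last i).ne
    simp only [R2, A, AlgHom.toRingHom_eq_coe, RingHom.coe_coe, uincl_ugen, UGen.castSucc, fwdVal]
    linear_combination hb - hq +
      (ugen R (m + 1) (.ci (Fin.last m)) - ugen R (m + 1) (.cbi i.castSucc)) * hl
  · intro i j h
    have ht := H.tri i.castSucc j.castSucc (Fin.last m) (fun e => h (Fin.castSucc_injective _ e))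
      (Fin.castSucc_lt_last j).ne (Fin.castSucc_lt_last i).ne
    simp only [RR, AlgHom.toRingHom_eq_coe, RingHom.coe_coe, uincl_ugen, UGen.castSucc, fwdVal]
    linear_combination -ht

/-- The map `O(C_n) → O(U_{n+1})`. -/
noncomputable def fwd : CurveAlg (URing R m) m (ugen R m) →+* URing R (m + 1) :=
  Ideal.Quotient.lift _ (eval₂Hom (uincl R m).toRingHom (fwdVal R m)) (by
    suffices Ideal.span (CRel (URing R m) m (ugen R m)) ≤
        RingHom.ker (eval₂Hom (uincl R m).toRingHom (fwdVal R m)) from fun p hp => this hp
    rw [Ideal.span_le]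
    rintro p ((⟨i, rfl⟩ | ⟨i, rfl⟩) | ⟨⟨⟨i, j⟩, hij⟩, rfl⟩)
    · have h := (fwd_sol R m).r1 i
      simp only [R1] at h
      simp only [SetLike.mem_coe, RingHom.mem_ker, map_add, map_mul, map_sub, eval₂Hom_X', eval₂Hom_C]
      linear_combination h
    · have h := (fwd_sol R m).r2 i
      simp only [R2, A] at h
      simp only [SetLike.mem_coe, RingHom.mem_ker, map_add, map_mul, map_sub, eval₂Hom_X', eval₂Hom_C]
      linear_combination h
    · have h := (fwd_sol R m).rr i j hij
      simp only [RR] at h
      simp only [SetLike.mem_coe, RingHom.mem_ker, map_add, map_mul, map_sub, eval₂Hom_X', eval₂Hom_C]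
      linear_combination h)

/-- The values in the curve algebra of the generators of `U_{n+1}`. -/
noncomputable def bwdVal : UGen (m + 1) → CurveAlg (URing R m) m (ugen R m)
  | .a => wv (ugen R m) .a
  | .c => wv (ugen R m) .c
  | .cb => wv (ugen R m) .cb
  | .ci i => Fin.lastCases (pr (ugen R m) .x2) (fun i => wv (ugen R m) (.ci i)) i
  | .cbi i => Fin.lastCases (pr (ugen R m) .x3 - wv (ugen R m) .a - pr (ugen R m) .x2)
      (fun i => wv (ugen R m) (.cbi i)) i
  | .cij i j _ => Fin.lastCases
      (Fin.lastCases 0
        (fun j => wv (ugen R m) (.ci j) + wv (ugen R m) (.cbi j) + pr (ugen R m) .x3 - pr (ugen R m) (.xi j)) j)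
      (fun i => Fin.lastCases (pr (ugen R m) (.xi i))
        (fun j => if h : i = j then 0 else wv (ugen R m) (.cij i j h)) j) i

theorem bwd_rel : Rel (bwdVal R m) := by
  have H : Rel (wv (ugen R m)) := (rel_ugen R m).map (algebraMap (URing R m) (CurveAlg (URing R m) m (ugen R m)))
  have r1 : ∀ i, _ = _ := fun i => pr_r1 (v := ugen R m) i
  have r2 : ∀ i, _ = _ := fun i => pr_r2 (v := ugen R m) i
  have rr : ∀ i j h, _ = _ := fun i j h => pr_rr (v := ugen R m) i j h
  simp only [A] at r2
  refine ⟨fun i j h => ?_, fun i j h => ?_, fun i j h => ?_, fun i j k hij hjk hik => ?_⟩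
  · induction i using Fin.lastCases with
    | last => induction j using Fin.lastCases with
      | last => exact absurd rfl h
      | cast j => simp [bwdVal]; ring
    | cast i => induction j using Fin.lastCases with
      | last => simp [bwdVal]; ring
      | cast j =>
        have h' : i ≠ j := fun e => h (congrArg _ e)
        simpa [bwdVal, h', h'.symm] using H.lin i j h'
  · induction i using Fin.lastCases with
    | last => induction j using Fin.lastCases with
      | last => exact absurd rfl h
      | cast j => simp [bwdVal]; linear_combination -(r1 j)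
    | cast i => induction j using Fin.lastCases with
      | last => simp [bwdVal]; linear_combination -(r1 i)
      | cast j =>
        have h' : i ≠ j := fun e => h (congrArg _ e)
        simpa [bwdVal, h', h'.symm] using H.qc i j h'
  · induction i using Fin.lastCases with
    | last => induction j using Fin.lastCases with
      | last => exact absurd rfl h
      | cast j => simp [bwdVal]; linear_combination r2 j - r1 j
    | cast i => induction j using Fin.lastCases with
      | last => simp [bwdVal]; linear_combination r2 i - r1 i
      | cast j =>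
        have h' : i ≠ j := fun e => h (congrArg _ e)
        simpa [bwdVal, h', h'.symm] using H.qb i j h'
  · induction k using Fin.lastCases with
    | last => induction i using Fin.lastCases with
      | last => exact absurd rfl hik
      | cast i => induction j using Fin.lastCases with
        | last => exact absurd rfl hjk
        | cast j =>
          have h' : i ≠ j := fun e => hij (congrArg _ e)
          simp [bwdVal, h', h'.symm]
          linear_combination -(rr i j h')
    | cast k => induction i using Fin.lastCases with
      | last => induction j using Fin.lastCases with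
        | last => exact absurd rfl hij
        | cast j =>
          have h' : j ≠ k := fun e => hjk (congrArg _ e)
          simp [bwdVal, h', h'.symm]
          linear_combination r2 j - rr j k h' +
            (wv (ugen R m) (.cbi j) - pr (ugen R m) (.xi j) - wv (ugen R m) (.ci k)) * H.lin j k h' +
            H.qc j k h' - H.qb j k h'
      | cast i => induction j using Fin.lastCases with
        | last =>
          have h' : i ≠ k := fun e => hik (congrArg _ e)
          simp [bwdVal, h', h'.symm]
          linear_combination r2 i - rr i k h' +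
            (wv (ugen R m) (.cbi i) - pr (ugen R m) (.xi i) - wv (ugen R m) (.ci k)) * H.lin i k h' +
            H.qc i k h' - H.qb i k h'
        | cast j =>
          have hij' : i ≠ j := fun e => hij (congrArg _ e)
          have hjk' : j ≠ k := fun e => hjk (congrArg _ e)
          have hik' : i ≠ k := fun e => hik (congrArg _ e)
          simpa [bwdVal, hij', hij'.symm, hjk', hik'] using H.tri i j k hij' hjk' hik'

/-- The map `O(U_{n+1}) → O(C_n)`. -/
noncomputable def bwd : URing R (m + 1) →ₐ[R] CurveAlg (URing R m) m (ugen R m) :=
  Ideal.Quotient.liftₐ _ (aeval (bwdVal R m)) (by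
    suffices Ideal.span (URel R (m + 1)) ≤
        RingHom.ker (aeval (R := R) (bwdVal R m)).toRingHom from fun p hp => this hp
    rw [Ideal.span_le]
    have H := bwd_rel R m
    rintro p (((⟨⟨⟨i, j⟩, h⟩, rfl⟩ | ⟨⟨⟨i, j⟩, h⟩, rfl⟩) | ⟨⟨⟨i, j⟩, h⟩, rfl⟩) | ⟨⟨⟨i, j, k⟩, hij, hjk, hik⟩, rfl⟩)
    all_goals
      show aeval (bwdVal R m) _ = 0
      simp only [map_add, map_sub, map_mul, aeval_X]
    · linear_combination H.lin i j h
    · linear_combination H.qc i j h
    · linear_combination H.qb i j h
    · linear_combination H.tri i j k hij hjk hik)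

theorem bwd_ugen (g : UGen (m + 1)) : bwd R m (ugen R (m + 1) g) = bwdVal R m g := by
  show aeval (bwdVal R m) (X g) = _
  rw [aeval_X]

theorem fwd_algebraMap (r : URing R m) : fwd R m (algebraMap _ _ r) = uincl R m r := by
  show eval₂Hom (uincl R m).toRingHom (fwdVal R m) (C r) = _
  rw [eval₂Hom_C]
  rfl

theorem fwd_pr (y : CVar m) : fwd R m (pr (ugen R m) y) = fwdVal R m y := by
  show eval₂Hom (uincl R m).toRingHom (fwdVal R m) (X y) = _
  rw [eval₂Hom_X']

/-- The isomorphism. -/
noncomputable def succEquiv : CurveAlg (URing R m) m (ugen R m) ≃+* URing R (m + 1) := by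
  refine RingEquiv.ofRingHom (fwd R m) (bwd R m).toRingHom ?_ ?_
  · refine Ideal.Quotient.ringHom_ext (MvPolynomial.ringHom_ext (fun r => ?_) fun g => ?_)
    · show fwd R m (bwd R m (algebraMap R _ r)) = algebraMap R (URing R (m + 1)) r
      rw [AlgHom.commutes, IsScalarTower.algebraMap_apply R (URing R m) (CurveAlg (URing R m) m (ugen R m)),
        fwd_algebraMap, AlgHom.commutes]
    · show fwd R m (bwd R m (ugen R (m + 1) g)) = ugen R (m + 1) g
      rw [bwd_ugen]
      cases g with
      | a => simp [bwdVal, wv, fwd_algebraMap, uincl_ugen, UGen.castSucc]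
      | c => simp [bwdVal, wv, fwd_algebraMap, uincl_ugen, UGen.castSucc]
      | cb => simp [bwdVal, wv, fwd_algebraMap, uincl_ugen, UGen.castSucc]
      | ci i =>
        induction i using Fin.lastCases with
        | last => simp [bwdVal, fwd_pr, fwdVal]
        | cast i => simp [bwdVal, wv, fwd_algebraMap, uincl_ugen, UGen.castSucc]
      | cbi i =>
        induction i using Fin.lastCases with
        | last => simp [bwdVal, wv, fwd_algebraMap, uincl_ugen, UGen.castSucc, fwd_pr, fwdVal]; ring
        | cast i => simp [bwdVal, wv, fwd_algebraMap, uincl_ugen, UGen.castSucc]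
      | cij i j h =>
        induction i using Fin.lastCases with
        | last => induction j using Fin.lastCases with
          | last => exact absurd rfl h
          | cast j =>
            simp [bwdVal, wv, fwd_algebraMap, uincl_ugen, UGen.castSucc, fwd_pr, fwdVal]
            linear_combination -((rel_ugen R (m + 1)).lin j.castSucc (Fin.last m) (Fin.castSucc_lt_last j).ne)
        | cast i => induction j using Fin.lastCases with
          | last => simp [bwdVal, fwd_pr, fwdVal]
          | cast j =>
            have h' : i ≠ j := fun e => h (congrArg _ e)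
            simp [bwdVal, h', wv, fwd_algebraMap, uincl_ugen, UGen.castSucc]
  · refine Ideal.Quotient.ringHom_ext (MvPolynomial.ringHom_ext (fun r => ?_) fun y => ?_)
    · show bwd R m (fwd R m (algebraMap _ _ r)) = algebraMap (URing R m) _ r
      rw [fwd_algebraMap]
      obtain ⟨p, rfl⟩ := Ideal.Quotient.mk_surjective r
      induction p using MvPolynomial.induction_on with
      | C r =>
        show bwd R m (uincl R m (algebraMap R _ r)) = _
        rw [AlgHom.commutes, AlgHom.commutes]
        exact IsScalarTower.algebraMap_apply R (URing R m) _ r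
      | add p q hp hq => simp only [map_add, hp, hq]
      | mul_X p g hp =>
        simp only [map_mul, hp]
        congr 1
        show bwd R m (uincl R m (ugen R m g)) = wv (ugen R m) g
        rw [uincl_ugen, bwd_ugen]
        cases g with
        | cij i j h => simp [UGen.castSucc, bwdVal, h]
        | _ => simp [UGen.castSucc, bwdVal]
    · show bwd R m (fwd R m (pr (ugen R m) y)) = pr (ugen R m) y
      rw [fwd_pr]
      cases y <;> simp [fwdVal, map_add, bwd_ugen, bwdVal]

end Groth.Agent.H23Un
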